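import Cfsg.Agent.H13.ConwayFive.Local

/-!
The elements of the second level centralising a suitable element form an alternating group of
degree five.
-/

set_option autoImplicit false
set_option linter.style.haveILetI false
set_option linter.unusedSectionVars false
set_option maxRecDepth 100000

namespace Cfsg.Agent.H13.ConwayFive

open QuadraticMap Cfsg.Agent.Orthogonal Cfsg.Agent.H73.Conway Cfsg.Agent.H92.ExtraForm Subgroup

variable {G : Type*} [Group G] [Finite G] {z : G} {Q : Subgroup G}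

/-- Two independent functionals take given values on at most sixteen vectors. -/
theorem card_two_values {a u : U6} (ha : a ≠ 0) (hu : u ≠ 0) (hau : a ≠ u) (i j : ZMod 2) :
    Nat.card {x : U6 // fU x a = i ∧ fU x u = j} ≤ 16 := by
  choose p hp using fun r : ZMod 2 × ZMod 2 => pair_values ha hu hau r.1 r.2
  let g : {x : U6 // fU x a = i ∧ fU x u = j} × (ZMod 2 × ZMod 2) → U6 := fun r => r.1.1 + p r.2
  have hg : Function.Injective g := by
    intro r r' e
    have e1 := congrArg (fun x => fU x a) e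
    have e2 := congrArg (fun x => fU x u) e
    simp only [g, fU_add_left, r.1.2.1, r.1.2.2, r'.1.2.1, r'.1.2.2, (hp _).1, (hp _).2,
      add_right_inj] at e1 e2
    have er : r.2 = r'.2 := Prod.ext e1 e2
    simp only [g, er, add_left_inj] at e
    exact Prod.ext (Subtype.ext e) er
  have h := Nat.card_le_card_of_injective g hg
  simp only [Nat.card_prod, Nat.card_zmod] at h
  omega

namespace Five

variable {h : H73.Conway.Setup z Q} {b : G} (F : Five h b)
include F

theorem inf_Q {f x : G} (hfz : f * z ≠ z * f) (hbf : b * f = f * b)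
    (hx : x ∈ Lv h xM ⊓ centralizer ({f} : Set G)) (hxQ : x ∈ Q) : x = 1 := by
  set D := Lv h xM ⊓ centralizer ({f} : Set G)
  have hzD : z ∉ D := fun e => hfz (mem_centralizer_singleton_iff.mp (mem_inf.mp e).2).symm
  have hbD : b ∈ D := mem_inf.mpr ⟨F.b_mem, mem_centralizer_singleton_iff.mpr hbf⟩
  have hxp := (mem_Lv_Q h penta_M hxQ).mp (mem_inf.mp hx).1
  by_contra hne
  have hv : h.π x ≠ 0 := fun e => by
    rcases (h.π_zero x hxQ).mp e with r | r
    · exact hne r
    · exact hzD (r ▸ hx)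
  rcases two_cases' (phi (h.π x)) with e | e
  · obtain ⟨j, hj⟩ := penta_M.pts _ (by rw [← phi_eq]; exact e) hv hxp.2
    set y := b * x * b⁻¹ with hy
    have hyQ : y ∈ Q := h.norm b F.bz x hxQ
    have hyD : y ∈ D := mul_mem (mul_mem hbD hx) (inv_mem hbD)
    have hπy : h.π y = xM (j + 1) := by rw [hy, h.ρ_π b F.bz x hxQ, F.ρb, hj, beta_xM]
    have hc := h.comm x hxQ y hyQ
    rw [hπy, hj, polar_eq, penta_M.pol j (j + 1) ((show ∀ i : Fin 5, i ≠ i + 1 by decide) j)] at hc
    simp only [zp, one_ne_zero, if_false] at hc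
    refine hzD ?_
    rw [show z = (x * y)⁻¹ * (y * x) by rw [hc, inv_mul_cancel_left]]
    exact mul_mem (inv_mem (mul_mem hx hyD)) (mul_mem hyD hx)
  · have hsq := h.sq x hxQ
    rw [e] at hsq
    simp only [zp, one_ne_zero, if_false] at hsq
    exact hzD (hsq ▸ mul_mem hx hx)

variable {s w : G} (P : Pair h s w)
include P

theorem card_D {q : G} (hq : q ∈ Q) (hd : (h.π q).1.2 = 1)
    (hfz : (w * q * w⁻¹) * z * (w * q * w⁻¹)⁻¹ = z * s)
    (hfs : (w * q * w⁻¹) * s = s * (w * q * w⁻¹)) :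
    60 ≤ Nat.card ↥(Lv h xM ⊓ centralizer ({w * q * w⁻¹} : Set G)) := by
  classical
  set f := w * q * w⁻¹ with hf
  obtain ⟨ba, hba, hbaθ, hbaL⟩ := F.exists_bu P (u := a0) (by decide +kernel)
  obtain ⟨bu, hbu, hbuθ, hbuL⟩ := F.exists_bu P (u := u0) (by decide +kernel)
  have hcs : ∀ c : Lv h xM, (c : G) * s = s * c := fun c =>
    (((mem_Lv h).mp c.2).2 s (F.s_mem P)).symm
  have hcz : ∀ c : Lv h xM, (w⁻¹ * c * w) * z = z * (w⁻¹ * c * w) := fun c =>
    P.conj_w_C (Lv_z h c.2) (hcs c)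
  let φ : Lv h xM →* O phi :=
    MonoidHom.mk' (fun c => h.ρ (w⁻¹ * c * w)) fun c d => by
      rw [← h.ρ_mul _ _ (hcz c) (hcz d)]
      congr 1
      rw [Subgroup.coe_mul]
      group
  set y := h.π q with hy
  -- vectors fixed by the image
  have hfix : ∀ (c : Lv h xM) {d : G}, InB z Q w d → d ∈ Lv h xF →
      (φ c : V8 ≃ₗ[ZMod 2] V8) (h.π (w⁻¹ * d * w)) = h.π (w⁻¹ * d * w) := by
    intro c d hd hdL
    show (h.ρ (w⁻¹ * c * w) : V8 ≃ₗ[ZMod 2] V8) _ = _
    rw [← h.ρ_π _ (hcz c) _ hd.1]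
    congr 1
    have e : d * (c : G) = (c : G) * d := commute_levels h penta_F penta_M dual_M hdL c.2
    calc w⁻¹ * c * w * (w⁻¹ * d * w) * (w⁻¹ * c * w)⁻¹ = w⁻¹ * (c * d) * (c : G)⁻¹ * w := by group
      _ = w⁻¹ * d * w := by rw [← e]; group
  have hfix0 : ∀ c : Lv h xM, (φ c : V8 ≃ₗ[ZMod 2] V8) v0 = v0 := fun c => by
    refine P.rho_fix (hcz c) ?_
    rw [← P.w_z]
    calc w⁻¹ * c * w * (w⁻¹ * z * w) = w⁻¹ * (c * z) * w := by group
      _ = w⁻¹ * z * w * (w⁻¹ * c * w) := by rw [Lv_z h c.2]; group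
  set α1 := alpha h (w⁻¹ * ba * w) with hα1
  set α2 := alpha h (w⁻¹ * bu * w) with hα2
  have hαinj : ∀ {d d' : G}, InB z Q w d → InB z Q w d' →
      alpha h (w⁻¹ * d * w) = alpha h (w⁻¹ * d' * w) → theta h d = theta h d' := by
    intro d d' hd hd' e
    obtain ⟨i, j, he⟩ := P.eq_mul_tt_A (P.InA_of_B hd) (P.InA_of_B hd') e
    have e' : d' = d * tt z s j i := by
      calc d' = w * (w⁻¹ * d' * w) * w⁻¹ := by group
        _ = d * (w * tt z s i j * w⁻¹) := by rw [he]; group
        _ = _ := by rw [P.w_tt]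
    rw [e', P.theta_mul hd (P.tt_InB j i), P.theta_tt, add_zero]
  have h1B : InB z Q w (1 : G) := ⟨by simp, by simp⟩
  have hθ1 : theta h (1 : G) = 0 := by
    rw [theta, h.ρ_one]; rfl
  have hα0 : alpha h (w⁻¹ * 1 * w) = 0 := by simp [alpha, h.π_one]
  have ha1 : α1 ≠ 0 := fun e => by
    have := hαinj hba h1B (e.trans hα0.symm)
    rw [hbaθ, hθ1] at this
    exact absurd this (by decide)
  have ha2 : α2 ≠ 0 := fun e => by
    have := hαinj hbu h1B (e.trans hα0.symm)
    rw [hbuθ, hθ1] at this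
    exact absurd this (by decide)
  have ha12 : α1 ≠ α2 := fun e => by
    have := hαinj hba hbu e
    rw [hbaθ, hbuθ] at this
    exact absurd this (by decide)
  -- the orbit of `y`
  set c1 := pV y (h.π (w⁻¹ * ba * w)) - (h.π (w⁻¹ * ba * w)).1.1
  set c2 := pV y (h.π (w⁻¹ * bu * w)) - (h.π (w⁻¹ * bu * w)).1.1
  have hval : ∀ (c : Lv h xM) {d : G}, InB z Q w d → d ∈ Lv h xF →
      fU ((φ c : V8 ≃ₗ[ZMod 2] V8) y).2 (alpha h (w⁻¹ * d * w)) =
        pV y (h.π (w⁻¹ * d * w)) - (h.π (w⁻¹ * d * w)).1.1 := by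
    intro c d hd hdL
    have he : ((φ c : V8 ≃ₗ[ZMod 2] V8) y).1.2 = 1 := by
      rw [← polar_v0, polar_fixed (hfix0 c), polar_v0]; exact ‹(h.π q).1.2 = 1›
    have hA := P.InA_of_B hd
    have hv : (h.π (w⁻¹ * d * w)).1.2 = 0 := (P.commA hA.1).mp hA.2
    rw [← pV_app (φ c) y, hfix c hd hdL]
    simp only [pV, he, hv, alpha, mul_one, mul_zero, zero_add]
    ring
  let S := {x : U6 // fU x α1 = c1 ∧ fU x α2 = c2}
  let K : Subgroup (Lv h xM) := (Penta.stab fun _ : Fin 5 => y).comap φ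
  have hK : ∀ c : Lv h xM, c ∈ K ↔ (φ c : V8 ≃ₗ[ZMod 2] V8) y = y := fun c =>
    ⟨fun e => e 0, fun e _ => e⟩
  let T : Lv h xM ⧸ K → S := fun c =>
    ⟨((φ c.out : V8 ≃ₗ[ZMod 2] V8) y).2, hval _ hba hbaL, hval _ hbu hbuL⟩
  have hT : Function.Injective T := by
    intro c d e
    have e2 : ((φ c.out : V8 ≃ₗ[ZMod 2] V8) y).2 = ((φ d.out : V8 ≃ₗ[ZMod 2] V8) y).2 :=
      congrArg Subtype.val e
    have hfst : ∀ c : Lv h xM, ((φ c : V8 ≃ₗ[ZMod 2] V8) y).1 =
        (qV y - qU ((φ c : V8 ≃ₗ[ZMod 2] V8) y).2, 1) := fun c => by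
      have he : ((φ c : V8 ≃ₗ[ZMod 2] V8) y).1.2 = 1 := by
        rw [← polar_v0, polar_fixed (hfix0 c), polar_v0]; exact hd
      refine Prod.ext ?_ he
      have := O.map_app (φ c) y
      rw [phi_eq, phi_eq] at this
      show _ = qV y - _
      rw [← this, qV, he, mul_one]
      ring
    have e1 : (φ c.out : V8 ≃ₗ[ZMod 2] V8) y = (φ d.out : V8 ≃ₗ[ZMod 2] V8) y :=
      Prod.ext (by rw [hfst, hfst, e2]) e2
    rw [← c.out_eq', ← d.out_eq']
    refine QuotientGroup.eq.mpr ((hK _).mpr ?_)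
    rw [map_mul, mul_app', ← e1, map_inv, inv_app]
  have hidx : K.index ≤ 16 := by
    rw [index_eq_card]
    exact (Nat.card_le_card_of_injective T hT).trans (card_two_values ha1 ha2 ha12 c1 c2)
  have hcardK : 120 ≤ Nat.card K := by
    have := K.card_mul_index
    rw [card_Lv h penta_M dual_F] at this
    nlinarith
  -- the stabiliser centralises `f` up to `z`
  set D := Lv h xM ⊓ centralizer ({f} : Set G)
  have hzL : z ∈ Lv h xM := (mem_Lv_Q h penta_M h.hzQ).mpr
    ⟨h.hzQ, fun i => by rw [h.π_z, ← polar_eq, polar_zero_left]⟩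
  have hKD : ∀ c : K, ((c : Lv h xM) : G) ∈ D ∨ ((c : Lv h xM) : G) * z ∈ D := by
    rintro ⟨c, hc⟩
    show (c : G) ∈ D ∨ (c : G) * z ∈ D
    set e := w⁻¹ * (c : G) * w with he
    rcases h.π_eq hq (h.norm e (hcz c) q hq)
      (by rw [h.ρ_π e (hcz c) q hq]; exact ((hK c).mp hc).symm) with r | r
    · left
      refine mem_inf.mpr ⟨c.2, mem_centralizer_singleton_iff.mpr (mul_inv_eq_iff_eq_mul.mp ?_)⟩
      calc (c : G) * f * (c : G)⁻¹ = w * (e * q * e⁻¹) * w⁻¹ := by rw [he, hf]; group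
        _ = f := by rw [r]
    · right
      refine mem_inf.mpr ⟨mul_mem c.2 hzL, mem_centralizer_singleton_iff.mpr
        (mul_inv_eq_iff_eq_mul.mp ?_)⟩
      have hcf : (c : G) * f * (c : G)⁻¹ = f * s := by
        calc (c : G) * f * (c : G)⁻¹ = w * (e * q * e⁻¹) * w⁻¹ := by rw [he, hf]; group
          _ = (w * q * w⁻¹) * (w * z * w⁻¹) := by rw [r]; group
          _ = f * s := by rw [P.hw1]
      have hzf : z * f * z = f * s := by
        have hfsz : f * (z * s) = z * f := by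
          calc f * (z * s) = (f * z * f⁻¹) * (f * s) := by group
            _ = z * s * (s * f) := by rw [hfz, hfs]
            _ = z * f := by rw [mul_assoc, ← mul_assoc s s f, P.ss, one_mul]
        rw [← hfsz, mul_assoc, mul_assoc z s z, P.sz, ← mul_assoc z z s, h.zz, one_mul]
      calc (c : G) * z * f * ((c : G) * z)⁻¹ = (c : G) * (z * f * z) * (c : G)⁻¹ := by
            rw [mul_inv_rev, h.z_inv]; group
        _ = ((c : G) * f * (c : G)⁻¹) * ((c : G) * s * (c : G)⁻¹) := by rw [hzf]; group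
        _ = f := by rw [hcf, mul_inv_eq_iff_eq_mul.mpr (hcs c), mul_assoc, P.ss, mul_one]
  let N : K → D × Bool := fun c =>
    if hc : ((c : Lv h xM) : G) ∈ D then (⟨_, hc⟩, false) else (⟨_, (hKD c).resolve_left hc⟩, true)
  have hN : Function.Injective N := by
    intro c c' e
    simp only [N] at e
    split_ifs at e with h1 h2 h2 <;>
      simp only [Prod.mk.injEq, Subtype.mk.injEq, Bool.false_eq_true, Bool.true_eq_false,
        and_false, and_true] at e
    · exact Subtype.ext (Subtype.ext e)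
    · exact Subtype.ext (Subtype.ext (mul_right_cancel e))
  have := Nat.card_le_card_of_injective N hN
  simp only [Nat.card_prod, Nat.card_eq_fintype_card (α := Bool), Fintype.card_bool] at this
  omega

/-- The centraliser of `f` in the second level is the alternating group. -/
theorem D_iso {q : G} (hq : q ∈ Q) (hd : (h.π q).1.2 = 1)
    (hfb : (w * q * w⁻¹) * b = b * (w * q * w⁻¹))
    (hfz : (w * q * w⁻¹) * z * (w * q * w⁻¹)⁻¹ = z * s)
    (hfs : (w * q * w⁻¹) * s = s * (w * q * w⁻¹)) :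
    Nonempty (↥(Lv h xM ⊓ centralizer ({w * q * w⁻¹} : Set G)) ≃* alternatingGroup (Fin 5)) := by
  have hne : (w * q * w⁻¹) * z ≠ z * (w * q * w⁻¹) := fun e => by
    rw [mul_inv_eq_iff_eq_mul.mpr e] at hfz
    exact P.s_ne (left_eq_mul.mp hfz)
  let r := (rhoL h penta_M).comp
    (Subgroup.inclusion (inf_le_left : Lv h xM ⊓ centralizer ({w * q * w⁻¹} : Set G) ≤ Lv h xM))
  have hr : Function.Injective r := (injective_iff_map_eq_one r).mpr fun c hc =>
    Subtype.ext (F.inf_Q hne hfb.symm c.2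
      ((h.ρ_ker _ (Lv_z h (mem_inf.mp c.2).1)).mp (congrArg Subtype.val hc)))
  haveI : Finite (Penta.evenPart xF) :=
    Nat.finite_of_card_ne_zero (by rw [penta_M.card_even]; norm_num)
  have hb : Function.Bijective r := hr.bijective_of_nat_card_le
    (by rw [penta_M.card_even]; exact F.card_D P hq hd hfz hfs)
  exact ⟨(MulEquiv.ofBijective r hb).trans penta_M.altEquiv⟩

end Five

end Cfsg.Agent.H13.ConwayFive
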