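import Cfsg.Agent.H13.ConwayFive.Alt
import Cfsg.Agent.H73.Conway.Main
import Cfsg.Agent.H43.JTwo.Types
import Cfsg.Agent.H43.JTwo.Uniq.Rels

/-!
Groups built from the first level and an element moving `z` into `Q` are Hall–Janko groups.
-/

set_option autoImplicit false
set_option linter.style.haveILetI false
set_option linter.unusedSectionVars false
set_option maxRecDepth 100000

namespace Cfsg.Agent.H13.ConwayFive

open QuadraticMap Cfsg.Agent.Orthogonal Cfsg.Agent.H73.Conway Cfsg.Agent.H92.ExtraForm Subgroup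

variable {G : Type*} [Group G] [Finite G] {z : G} {Q : Subgroup G}

/-- An element of the level centralising its part of `Q` is central. -/
theorem level_cQ (h : H73.Conway.Setup z Q) {k : G} (hk : k ∈ Lv h xF)
    (hall : ∀ q ∈ Qp h xM, q * k = k * q) : k = 1 ∨ k = z := by
  have hkz := Lv_z h hk
  have hρ : h.ρ k = 1 := by
    refine penta_F.ext (fun i => ?_) (fun i => (rho_stab h penta_F hk).1 i)
    obtain ⟨q, hq, hqv⟩ := exists_lift_pt h penta_M i
    rw [← hqv, ← h.ρ_π k hkz q hq.1, ← hall q hq, mul_inv_cancel_right]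
    rfl
  have hkQ : k ∈ Q := (h.ρ_ker k hkz).mp hρ
  have hkp := (mem_Lv_Q h penta_F hkQ).mp hk
  refine (h.π_zero k hkQ).mp ?_
  have hF : ∀ i, pV (h.π k) (xF i) = 0 := fun i => by
    obtain ⟨q, hq, hqv⟩ := exists_lift_pt h penta_M i
    have := (h.commute_iff hkQ hq.1).mp (hall q hq).symm
    rwa [hqv, polar_eq] at this
  rw [penta_F.expand (h.π k)]
  simp [comp4, cf, hF, hkp.2]

namespace Five

variable {h : H73.Conway.Setup z Q} {b : G} (F : Five h b) {s w : G} (P : Pair h s w)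
include F P

/-- A standard involution in the level which is not conjugate to `z`. -/
theorem exists_x : ∃ x ∈ Lv h xF, x * x = 1 ∧ x ≠ 1 ∧ ¬ IsConj x z := by
  obtain ⟨q0, hq0, hq0π⟩ := P.exists_A a0
  obtain ⟨bu, hbu, hbuθ, hbuL⟩ := F.exists_bu P (u := u0) (by decide +kernel)
  have hα : alpha h q0 = a0 := by simp [alpha, hq0π]
  have hq0L : q0 ∈ Lv h xF := (mem_Lv_Q h penta_F hq0.1).mpr
    ⟨hq0.1, fun i => by rw [hq0π]; revert i; decide +kernel⟩
  have f2 : qU a0 = fU a0 u0 ∧ qU u0 = fU a0 u0 ∧ fU a0 u0 = 1 := by decide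
  have X : Std h s w q0 bu := P.mk_std hq0 hbu (a1 := ((1, 1), (0, 0), 0, 0)) hα hbuθ (by decide)
    (by decide) (by decide) f2.1 f2.2.1 (by decide) fun q b hq hb h1 h2 h3 _ _ _ =>
      P.conj_two hq hb hq0 hbu hα hbuθ (h1.trans f2.2.2) (h2.trans f2.2.2) (h3.trans f2.2.2)
  exact ⟨q0 * bu, mul_mem hq0L hbuL, X.sq, fun e => P.x_not_mem X (e ▸ one_mem Q),
    P.not_conj_z X⟩

theorem isoJ2_hom {f : G} (hfz : f * z * f⁻¹ = z * s) {K : Subgroup G} (hLK : Lv h xF ≤ K)
    (hfK : f ∈ K) {H : Type*} [Group H] [Finite H] (φ : K →* H)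
    (hinj : ∀ k : K, (k : G) ∈ Lv h xF → φ k = 1 → (k : G) = 1)
    (hcent : ∀ (x : H) (c : K), (c : G) = z → x * φ c = φ c * x →
      ∃ k : K, (k : G) ∈ Lv h xF ∧ φ k = x)
    (hconj : ∀ k c : K, (k : G) ∈ Lv h xF → k * k = 1 → (c : G) = z → IsConj (φ k) (φ c) →
      IsConj (k : G) z) :
    Cfsg.Spor.IsoJ2 H := by
  classical
  have hsub : Qp h xM ≤ Lv h xF := fun q hq => (mem_Lv_Q h penta_F hq.1).mpr hq
  have hzP : z ∈ Qp h xM := ⟨h.hzQ, fun i => by rw [h.π_z, ← polar_eq, polar_zero_left]⟩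
  let ι : ∀ k, k ∈ Lv h xF → K := fun k hk => ⟨k, hLK hk⟩
  have hval : ∀ {k : G} (hk : k ∈ Lv h xF), ((ι k hk : K) : G) = k := fun hk => rfl
  have hinj' : ∀ {k l : G} (hk : k ∈ Lv h xF) (hl : l ∈ Lv h xF),
      φ (ι k hk) = φ (ι l hl) → k = l := by
    intro k l hk hl e
    have e1 : φ (ι k hk * (ι l hl)⁻¹) = 1 := by rw [map_mul, map_inv, e, mul_inv_cancel]
    have := hinj _ (mul_mem hk (inv_mem hl)) e1
    exact mul_inv_eq_one.mp this
  set zK : K := ι z (hsub hzP) with hzK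
  set z' := φ zK
  set Q' : Subgroup H := ((Qp h xM).subgroupOf K).map φ with hQ'
  have hmemQ : ∀ {x : H}, x ∈ Q' → ∃ q, ∃ hq : q ∈ Qp h xM, φ (ι q (hsub hq)) = x := by
    rintro x ⟨⟨q, hqK⟩, hq, rfl⟩
    exact ⟨q, hq, rfl⟩
  have hmkQ : ∀ {q : G} (hq : q ∈ Qp h xM), φ (ι q (hsub hq)) ∈ Q' := fun {q} hq =>
    ⟨ι q (hsub hq), hq, rfl⟩
  have hz1 : z' ≠ 1 := fun e => h.z_ne (hinj zK (hsub hzP) e)
  have hzz : z' * z' = 1 := by
    rw [← map_mul, show zK * zK = 1 from Subtype.ext h.zz, map_one]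
  have hord : orderOf z' = 2 := by
    haveI : Fact (Nat.Prime 2) := ⟨Nat.prime_two⟩
    exact orderOf_eq_prime (by rw [pow_two, hzz]) hz1
  have hcomm : ∀ {k : G} (hk : k ∈ Lv h xF), φ (ι k hk) * z' = z' * φ (ι k hk) := fun {k} hk => by
    rw [← map_mul, ← map_mul, show ι k hk * zK = zK * ι k hk from Subtype.ext (Lv_z h hk)]
  have hle : ∀ {x : H}, x ∈ Q' → x * z' = z' * x := fun hx => by
    obtain ⟨q, hq, rfl⟩ := hmemQ hx
    exact hcomm (hsub hq)
  have S : H43.JTwo.Setup z' Q' := by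
    refine ⟨hord, ?_, fun x hx => mem_centralizer_singleton_iff.mpr (hle hx), hmkQ hzP, ?_, ?_, ?_,
      ?_, ?_, ?_⟩
    · rw [← card_Qp h dual_M]
      refine (Nat.card_congr (Equiv.ofBijective
        (fun q : Qp h xM => (⟨_, hmkQ q.2⟩ : Q')) ⟨fun q r e => ?_, fun x => ?_⟩)).symm
      · exact Subtype.ext (hinj' (hsub q.2) (hsub r.2) (congrArg Subtype.val e))
      · obtain ⟨q, hq, e⟩ := hmemQ x.2
        exact ⟨⟨q, hq⟩, Subtype.ext e⟩
    · intro c hc
      obtain ⟨k, hk, rfl⟩ := hcent c zK rfl (hc z' (hmkQ hzP)).symm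
      have hall : ∀ q ∈ Qp h xM, q * (k : G) = (k : G) * q := by
        intro q hq
        have e : φ (ι q (hsub hq) * k) = φ (k * ι q (hsub hq)) := by
          rw [map_mul, map_mul]; exact hc _ (hmkQ hq)
        exact hinj' (k := q * k) (l := k * q) (mul_mem (hsub hq) hk) (mul_mem hk (hsub hq)) e
      rcases level_cQ h hk hall with e | e
      · left; rw [show k = 1 from Subtype.ext e, map_one]
      · right; rw [show k = zK from Subtype.ext e]
    · intro c hc x hx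
      obtain ⟨k, hk, rfl⟩ := hcent c zK rfl hc
      obtain ⟨q, hq, rfl⟩ := hmemQ hx
      have hkz := Lv_z h hk
      have hq' : (k : G) * q * (k : G)⁻¹ ∈ Qp h xM := by
        refine ⟨h.norm _ hkz q hq.1, fun i => ?_⟩
        rw [h.ρ_π _ hkz q hq.1, ← (rho_stab h penta_F hk).1 i, pV_app, hq.2]
      have := hmkQ hq'
      rw [show ι _ (hsub hq') = k * ι q (hsub hq) * k⁻¹ from Subtype.ext rfl, map_mul, map_mul,
        map_inv] at this
      exact this
    · intro x hx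
      obtain ⟨q, hq, rfl⟩ := hmemQ hx
      rw [← map_mul]
      rcases two_cases' (phi (h.π q)) with e | e <;> have hsq := h.sq q hq.1 <;> rw [e] at hsq
      · left; rw [show ι q (hsub hq) * ι q (hsub hq) = 1 from Subtype.ext hsq, map_one]
      · right; rw [show ι q (hsub hq) * ι q (hsub hq) = zK from Subtype.ext hsq]
    · intro x hx y hy
      obtain ⟨q, hq, rfl⟩ := hmemQ hx
      obtain ⟨r, hr, rfl⟩ := hmemQ hy
      have e := h.comm r hr.1 q hq.1
      rw [← map_mul, ← map_mul]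
      rcases two_cases' (polar (⇑phi) (h.π r) (h.π q)) with c | c <;> rw [c] at e <;>
        simp only [zp, one_ne_zero, if_false, if_true, mul_one] at e
      · left; congr 1; exact Subtype.ext e
      · right
        rw [← map_mul]
        congr 1
        refine Subtype.ext ?_
        show q * r = z * (r * q)
        rw [e, h.le _ (mul_mem hr.1 hq.1)]
    · rw [← card_Lv h penta_F dual_M]
      refine (Nat.card_congr (Equiv.ofBijective
        (fun k : Lv h xF => (⟨φ (ι k k.2), mem_centralizer_singleton_iff.mpr (hcomm k.2)⟩ :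
          centralizer ({z'} : Set H))) ⟨fun k l e => ?_, fun x => ?_⟩)).symm
      · exact Subtype.ext (hinj' k.2 l.2 (congrArg Subtype.val e))
      · obtain ⟨k, hk, e⟩ := hcent x zK rfl (mem_centralizer_singleton_iff.mp x.2)
        exact ⟨⟨k, hk⟩, Subtype.ext e⟩
    · refine ⟨_, hmkQ (F.s_mem P), ?_, fun e => P.s_ne (hinj _ (hsub (F.s_mem P)) e),
        fun e => P.s_ne_z (hinj' (hsub (F.s_mem P)) (hsub hzP) e)⟩
      rw [← map_mul, show ι s (hsub (F.s_mem P)) * ι s (hsub (F.s_mem P)) = 1 from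
        Subtype.ext P.ss, map_one]
  obtain ⟨D⟩ := S.exists_coord
  have hzs : z * s ∈ Qp h xM := mul_mem hzP (F.s_mem P)
  have hfe : φ ⟨f, hfK⟩ * z' * (φ ⟨f, hfK⟩)⁻¹ = φ (ι (z * s) (hsub hzs)) := by
    rw [← map_inv, ← map_mul, ← map_mul]
    congr 1
    exact Subtype.ext hfz
  obtain ⟨x, hxL, hxx, hx1, hxz⟩ := F.exists_x P
  obtain ⟨J⟩ := D.exists_jset
    ⟨φ ⟨f, hfK⟩, by rw [hfe]; exact hmkQ hzs,
      fun e => P.s_ne (mul_eq_left.mp (hinj' (hsub hzs) (hsub hzP) (hfe.symm.trans e)))⟩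
    ⟨φ (ι x hxL), z', by
      haveI : Fact (Nat.Prime 2) := ⟨Nat.prime_two⟩
      exact orderOf_eq_prime
        (by rw [pow_two, ← map_mul, show ι x hxL * ι x hxL = 1 from Subtype.ext hxx, map_one])
        (fun e => hx1 (hinj _ hxL e)), hord,
      fun e => hxz (hconj _ zK hxL (Subtype.ext hxx) rfl e)⟩
  exact H43.JTwo.Uniq.iso_j2 J

end Five

end Cfsg.Agent.H13.ConwayFive
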