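import Cfsg.Agent.H13.ConwayFive.Normal

/-!
For each pentad, the subgroup of the centraliser of `z` centralising the part of `Q` over the other
pentad; the two subgroups commute.
-/

set_option autoImplicit false
set_option linter.style.haveILetI false
set_option linter.unusedSectionVars false
set_option maxRecDepth 100000

namespace Cfsg.Agent.H13.ConwayFive

open QuadraticMap Cfsg.Agent.Orthogonal Cfsg.Agent.H73.Conway Cfsg.Agent.H92.ExtraForm Subgroup

variable {G : Type*} [Group G] [Finite G] {z : G} {Q : Subgroup G}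

/-- Sixteen vectors orthogonal to a pentad. -/
theorem card_perp_F : (Finset.univ.filter fun v : V8 => ∀ i, pV v (xF i) = 0).card = 16 := by
  decide +kernel

/-- A pentad with dual vectors and a small perpendicular space. -/
structure Dual (y : Fin 5 → V8) : Prop where
  dual : ∀ χ : Fin 4 → ZMod 2, ∃ v, ∀ j : Fin 4, pV v (y j.castSucc) = χ j
  card : (Finset.univ.filter fun v : V8 => ∀ i, pV v (y i) = 0).card = 16

theorem dual_F : Dual xF := ⟨by decide +kernel, card_perp_F⟩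

theorem dual_M : Dual xM := ⟨by decide +kernel, card_perp_M⟩

/-- The part of `Q` over the vectors orthogonal to `y`. -/
def Qp (h : H73.Conway.Setup z Q) (y : Fin 5 → V8) : Subgroup G where
  carrier := {q | q ∈ Q ∧ ∀ i, pV (h.π q) (y i) = 0}
  mul_mem' {a b} ha hb := ⟨mul_mem ha.1 hb.1, fun i => by
    rw [h.π_mul a ha.1 b hb.1, pV_add, ha.2 i, hb.2 i, add_zero]⟩
  one_mem' := ⟨one_mem Q, fun i => by rw [h.π_one, ← polar_eq, polar_zero_left]⟩
  inv_mem' {a} ha := ⟨inv_mem ha.1, fun i => by rw [h.π_inv ha.1]; exact ha.2 i⟩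

/-- The centraliser in `C(z)` of the part of `Q` over the vectors orthogonal to `x`. -/
def Lv (h : H73.Conway.Setup z Q) (x : Fin 5 → V8) : Subgroup G :=
  centralizer ({z} : Set G) ⊓ centralizer (Qp h x : Set G)

variable (h : H73.Conway.Setup z Q)

theorem mem_Lv {x : Fin 5 → V8} {c : G} :
    c ∈ Lv h x ↔ c * z = z * c ∧ ∀ q ∈ Qp h x, q * c = c * q := by
  rw [Lv, Subgroup.mem_inf, mem_centralizer_singleton_iff, mem_centralizer_iff]
  rfl

theorem Lv_z {x : Fin 5 → V8} {c : G} (hc : c ∈ Lv h x) : c * z = z * c := ((mem_Lv h).mp hc).1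

/-- Lifts of the other pentad. -/
theorem exists_lift_pt {x y : Fin 5 → V8} (P : Penta x y) (i : Fin 5) :
    ∃ q ∈ Qp h x, h.π q = y i := by
  obtain ⟨q, hq, hqv⟩ := h.π_surj (y i)
  exact ⟨q, ⟨hq, fun j => by rw [hqv, pV_comm, P.cross]⟩, hqv⟩

/-- Elements of the level fix the other pentad. -/
theorem rho_stab {x y : Fin 5 → V8} (P : Penta x y) {c : G} (hc : c ∈ Lv h x) :
    h.ρ c ∈ Penta.evenPart y := by
  obtain ⟨hcz, hall⟩ := (mem_Lv h).mp hc
  refine ⟨fun i => ?_, h.ρ_mem c hcz⟩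
  obtain ⟨q, hq, hqv⟩ := exists_lift_pt h P i
  rw [← hqv, ← h.ρ_π c hcz q hq.1, mul_inv_eq_iff_eq_mul.mpr (hall q hq).symm]

theorem mem_Lv_Q {x y : Fin 5 → V8} (P : Penta x y) {q : G} (hq : q ∈ Q) :
    q ∈ Lv h x ↔ q ∈ Qp h y := by
  rw [mem_Lv]
  refine ⟨fun ⟨_, hall⟩ => ⟨hq, fun i => ?_⟩, fun hq' => ⟨h.le q hq, fun r hr => ?_⟩⟩
  · obtain ⟨r, hr, hrv⟩ := exists_lift_pt h P i
    have := (h.commute_iff hr.1 hq).mp (hall r hr)
    rwa [hrv, polar_eq, pV_comm] at this
  · refine (h.commute_iff hr.1 hq).mpr ?_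
    have e : h.π r = comp4 y (h.π r) := by
      have hx : comp4 x (h.π r) = 0 := by simp [comp4, cf, hr.2]
      conv_lhs => rw [P.expand (h.π r), hx, zero_add]
    rw [polar_comm, e, comp4]
    simp only [polar_add_right, polar_smul_right, polar_eq, hq'.2, smul_zero, add_zero]

/-- Every even isometry fixing the other pentad lifts into the level. -/
theorem exists_lift {x y : Fin 5 → V8} (P : Penta x y) (D : Dual y) {k : O phi}
    (hk : k ∈ Penta.evenPart y) : ∃ c ∈ Lv h x, h.ρ c = k := by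
  classical
  obtain ⟨c, hc, rfl⟩ := h.ρ_surj k hk.2
  choose r hr hrv using exists_lift_pt h P
  obtain ⟨v, hv⟩ := D.dual fun j : Fin 4 =>
    if c * r j.castSucc * c⁻¹ = r j.castSucc then 0 else 1
  obtain ⟨p, hp, hpv⟩ := h.π_surj v
  set c' := c * p with hc'
  have hc'z : c' * z = z * c' := h.mul_comm' hc (h.le p hp)
  have hρ : h.ρ c' = h.ρ c := by rw [hc', h.ρ_mul _ _ hc (h.le p hp), h.ρ_Q hp, mul_one]
  have hfix : ∀ j : Fin 4, r j.castSucc * c' = c' * r j.castSucc := by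
    intro j
    set q := r j.castSucc
    have hq : q ∈ Q := (hr _).1
    have hpq : p * q = q * p * zp z (if c * q * c⁻¹ = q then 0 else 1) := by
      rw [h.comm q hq p hp, hrv, hpv, polar_eq, pV_comm, hv j]
    rcases h.π_eq hq (h.norm c hc q hq) (by rw [h.ρ_π c hc q hq, hrv, hk.1 j.castSucc]) with e | e
    · rw [if_pos e] at hpq
      simp only [zp, if_true, mul_one] at hpq
      have e1 := mul_inv_eq_iff_eq_mul.mp e
      rw [hc', ← mul_assoc, ← e1, mul_assoc, ← hpq, mul_assoc]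
    · have hne : c * q * c⁻¹ ≠ q := fun e' => h.z_ne (mul_eq_left.mp (e.symm.trans e'))
      rw [if_neg hne] at hpq
      simp only [zp, one_ne_zero, if_false] at hpq
      have e1 := mul_inv_eq_iff_eq_mul.mp e
      calc q * c' = q * (z * z) * c * p := by rw [h.zz, mul_one, mul_assoc, hc']
        _ = (q * z * c) * z * p := by
          rw [← mul_assoc q z z, mul_assoc (q * z) z c, ← hc, ← mul_assoc (q * z) c z]
        _ = c * q * z * p := by rw [← e1]
        _ = c * (q * p * z) := by rw [mul_assoc (c * q), ← h.le p hp]; group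
        _ = c' * q := by rw [← hpq, hc', mul_assoc]
  have hT : ∀ v, (∀ q ∈ Q, h.π q = v → q * c' = c' * q) → ∀ v',
      (∀ q ∈ Q, h.π q = v' → q * c' = c' * q) → ∀ q ∈ Q, h.π q = v + v' → q * c' = c' * q := by
    intro v hv v' hv' q hq hqe
    obtain ⟨a, ha, hav⟩ := h.π_surj v
    have hb : a⁻¹ * q ∈ Q := mul_mem (inv_mem ha) hq
    have hbv : h.π (a⁻¹ * q) = v' := by
      rw [h.π_mul _ (inv_mem ha) _ hq, h.π_inv ha, hav, hqe, ← add_assoc, add_self', zero_add]
    have := ((show Commute a c' from hv a ha hav).mul_left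
      (show Commute (a⁻¹ * q) c' from hv' _ hb hbv)).eq
    rwa [mul_inv_cancel_left] at this
  have h0 : ∀ q ∈ Q, h.π q = 0 → q * c' = c' * q := by
    intro q hq e
    rcases (h.π_zero q hq).mp e with rfl | rfl
    · simp
    · exact hc'z.symm
  have hpt : ∀ (j : Fin 4) (a : ZMod 2), ∀ q ∈ Q, h.π q = a • y j.castSucc → q * c' = c' * q := by
    intro j a q hq e
    rcases two_cases' a with rfl | rfl
    · exact h0 q hq (by rw [e, zero_smul])
    · rcases h.π_eq (hr _).1 hq (by rw [hrv, e, one_smul]) with rfl | rfl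
      · exact hfix j
      · exact ((show Commute _ c' from hfix j).mul_left (show Commute z c' from hc'z.symm)).eq
  refine ⟨c', (mem_Lv h).mpr ⟨hc'z, fun q hq => ?_⟩, hρ⟩
  have e : h.π q = comp4 y (h.π q) := by
    have hx : comp4 x (h.π q) = 0 := by simp [comp4, cf, hq.2]
    conv_lhs => rw [P.expand (h.π q), hx, zero_add]
  exact hT _ (hpt 0 _) _ (hT _ (hpt 1 _) _ (hT _ (hpt 2 _) _ (hpt 3 _))) q hq.1 e

theorem card_Qp {y : Fin 5 → V8} (D : Dual y) : Nat.card (Qp h y) = 32 := by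
  classical
  choose sec hsecQ hsec using h.π_surj
  set S := Finset.univ.filter fun v : V8 => ∀ i, pV v (y i) = 0 with hS
  have hmem : ∀ (v : S) (i : ZMod 2), sec v * zp z i ∈ Qp h y := by
    intro v i
    have hv := (Finset.mem_filter.mp v.2).2
    have hz : zp z i ∈ Q ∧ h.π (zp z i) = 0 := by
      rcases two_cases' i with rfl | rfl <;> simp [zp, h.hzQ, h.π_one, h.π_z]
    exact ⟨mul_mem (hsecQ _) hz.1, fun j => by
      rw [h.π_mul _ (hsecQ _) _ hz.1, hz.2, hsec, add_zero]; exact hv j⟩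
  let f : S × ZMod 2 → Qp h y := fun p => ⟨sec p.1 * zp z p.2, hmem p.1 p.2⟩
  have hπf : ∀ p, h.π (f p : G) = p.1 := fun p => by
    have hz : zp z p.2 ∈ Q ∧ h.π (zp z p.2) = 0 := by
      rcases two_cases' p.2 with e | e <;> simp [e, zp, h.hzQ, h.π_one, h.π_z]
    show h.π (sec p.1 * zp z p.2) = _
    rw [h.π_mul _ (hsecQ _) _ hz.1, hz.2, hsec, add_zero]
  have hbij : Function.Bijective f := by
    refine ⟨fun p p' e => ?_, fun q => ?_⟩
    · have e1 : p.1 = p'.1 := Subtype.ext (by rw [← hπf p, e, hπf p'])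
      have e2 : sec p.1 * zp z p.2 = sec p'.1 * zp z p'.2 := congrArg Subtype.val e
      rw [← e1] at e2
      exact Prod.ext e1 (zp_inj h.z_ne (mul_left_cancel e2))
    · have hv : h.π q ∈ S := Finset.mem_filter.mpr ⟨Finset.mem_univ _, q.2.2⟩
      rcases h.π_eq (hsecQ (h.π q)) q.2.1 (hsec _) with e | e
      · exact ⟨(⟨_, hv⟩, 0), Subtype.ext (by simp [f, zp, e.symm])⟩
      · exact ⟨(⟨_, hv⟩, 1), Subtype.ext (by simp [f, zp, e.symm])⟩
  rw [← Nat.card_congr (Equiv.ofBijective f hbij), Nat.card_prod, Nat.card_eq_fintype_card,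
    Fintype.card_coe, hS, D.card, Nat.card_zmod]

/-- The map of the level onto the even part. -/
noncomputable def rhoL {x y : Fin 5 → V8} (P : Penta x y) : Lv h x →* Penta.evenPart y where
  toFun c := ⟨h.ρ c, rho_stab h P c.2⟩
  map_one' := Subtype.ext h.ρ_one
  map_mul' c d := Subtype.ext (h.ρ_mul c d (Lv_z h c.2) (Lv_z h d.2))

theorem card_Lv {x y : Fin 5 → V8} (P : Penta x y) (D : Dual y) :
    Nat.card (Lv h x) = 1920 := by
  have hsurj : Function.Surjective (rhoL h P) := fun k => by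
    obtain ⟨c, hc, e⟩ := exists_lift h P D k.2
    exact ⟨⟨c, hc⟩, Subtype.ext e⟩
  have hker : Nat.card (rhoL h P).ker = 32 := by
    rw [← card_Qp h D]
    have hto : ∀ c : (rhoL h P).ker, ((c : Lv h x) : G) ∈ Qp h y := fun c => by
      have hQ : ((c : Lv h x) : G) ∈ Q :=
        (h.ρ_ker _ (Lv_z h c.1.2)).mp (congrArg Subtype.val c.2)
      exact (mem_Lv_Q h P hQ).mp c.1.2
    refine Nat.card_congr (Equiv.ofBijective (fun c => (⟨_, hto c⟩ : Qp h y)) ⟨?_, ?_⟩)
    · intro c c' e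
      exact Subtype.ext (Subtype.ext (congrArg Subtype.val e :))
    · intro q
      exact ⟨⟨⟨q, (mem_Lv_Q h P q.2.1).mpr q.2⟩, Subtype.ext (h.ρ_Q q.2.1)⟩, rfl⟩
  rw [← Subgroup.card_mul_index (rhoL h P).ker, hker, Subgroup.index_ker,
    MonoidHom.range_eq_top.mpr hsurj, Subgroup.card_top, P.card_even]

include h in
/-- An element of odd order fixed up to `z`. -/
theorem commute_of_odd {c d : G} (hcd : c * d * c⁻¹ = d ∨ c * d * c⁻¹ = d * z)
    (hcz : c * z = z * c) {n : ℕ} (hn : Odd n) (hc : c ^ n = 1) : c * d = d * c := by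
  rcases hcd with e | e
  · exact mul_inv_eq_iff_eq_mul.mp e
  · exfalso
    have hk : ∀ m : ℕ, c ^ m * d * (c ^ m)⁻¹ = d * z ^ m := by
      intro m
      induction m with
      | zero => simp
      | succ m ih =>
        calc c ^ (m + 1) * d * (c ^ (m + 1))⁻¹ = c * (c ^ m * d * (c ^ m)⁻¹) * c⁻¹ := by
              rw [pow_succ']; group
          _ = (c * d * c⁻¹) * (c * z ^ m * c⁻¹) := by rw [ih]; group
          _ = d * z * z ^ m := by rw [e, ((show Commute c z from hcz).pow_right m).eq]; group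
          _ = d * z ^ (m + 1) := by rw [pow_succ', mul_assoc]
    obtain ⟨j, rfl⟩ := hn
    have h5 := hk (2 * j + 1)
    rw [hc, pow_succ z, pow_mul, pow_two, h.zz, one_pow] at h5
    simp only [one_mul, inv_one, mul_one] at h5
    exact h.z_ne (left_eq_mul.mp h5)

theorem even_generated {x y : Fin 5 → V8} (P : Penta x y) (A : Subgroup (Penta.evenPart y))
    (hA : ∀ g : Penta.evenPart y, g ^ 3 = 1 → g ∈ A) : A = ⊤ := by
  rw [eq_top_iff]
  have hle : alternatingGroup (Fin 5) ≤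
      (A.map P.altEquiv.toMonoidHom).map (alternatingGroup (Fin 5)).subtype := by
    conv_lhs => rw [← Equiv.Perm.closure_three_cycles_eq_alternating]
    rw [Subgroup.closure_le]
    intro σ hσ
    have hσ' : σ ∈ alternatingGroup (Fin 5) := Equiv.Perm.IsThreeCycle.mem_alternatingGroup hσ
    refine ⟨⟨σ, hσ'⟩, ⟨P.altEquiv.symm ⟨σ, hσ'⟩, hA _ ?_, by simp⟩, rfl⟩
    apply P.altEquiv.injective
    rw [map_pow, MulEquiv.apply_symm_apply, map_one]
    refine Subtype.ext ?_
    show σ ^ 3 = 1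
    rw [← Equiv.Perm.IsThreeCycle.orderOf hσ, pow_orderOf_eq_one]
  intro g _
  obtain ⟨a, ⟨g', hg', rfl⟩, he⟩ := hle (P.altEquiv g).2
  rwa [← P.altEquiv.injective (Subtype.ext he)]

/-- The two levels commute. -/
theorem commute_levels {x y : Fin 5 → V8} (P : Penta x y) (P' : Penta y x) (D : Dual y)
    {k c : G} (hk : k ∈ Lv h x) (hc : c ∈ Lv h y) : k * c = c * k := by
  obtain ⟨hcz, hcQ⟩ := (mem_Lv h).mp hc
  have hbase : ∀ k ∈ Lv h x, k * c * k⁻¹ = c ∨ k * c * k⁻¹ = c * z := by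
    intro k hk
    obtain ⟨hkz, hkQ⟩ := (mem_Lv h).mp hk
    set q := c⁻¹ * (k * c * k⁻¹) with hq
    have hqz : q * z = z * q := h.mul_comm' (h.inv_comm hcz) (h.conj_comm hkz hcz)
    have hqQ : q ∈ Q := (h.ρ_ker q hqz).mp (by
      rw [hq, h.ρ_mul _ _ (h.inv_comm hcz) (h.conj_comm hkz hcz), h.ρ_inv hcz, h.ρ_conj hkz hcz,
        P.commute_parts (rho_stab h P hk).1 (rho_stab h P' hc).1, mul_inv_cancel_right,
        inv_mul_cancel])
    have hnormy : ∀ {g : G}, g * z = z * g → h.ρ g ∈ Penta.stab x →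
        ∀ r ∈ Qp h x, g * r * g⁻¹ ∈ Qp h x := fun {g} hgz hg r hr =>
      ⟨h.norm g hgz r hr.1, fun i => by rw [h.ρ_π g hgz r hr.1, ← hg i, pV_app, hr.2]⟩
    have hnormx : ∀ {g : G}, g * z = z * g → h.ρ g ∈ Penta.stab y →
        ∀ r ∈ Qp h y, g * r * g⁻¹ ∈ Qp h y := fun {g} hgz hg r hr =>
      ⟨h.norm g hgz r hr.1, fun i => by rw [h.ρ_π g hgz r hr.1, ← hg i, pV_app, hr.2]⟩
    -- `q` centralises both parts of `Q`
    have h1 : q ∈ Lv h x := by
      refine (mem_Lv h).mpr ⟨hqz, fun r hr => ?_⟩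
      have e := hkQ _ (hnormy hcz (rho_stab h P' hc).1 r hr)
      have hr' := hkQ r hr
      refine (mul_inv_eq_iff_eq_mul.mp ?_).symm
      calc q * r * q⁻¹ = c⁻¹ * (k * (c * (k⁻¹ * r * k) * c⁻¹) * k⁻¹) * c := by rw [hq]; group
        _ = c⁻¹ * (k * (c * r * c⁻¹) * k⁻¹) * c := by
          rw [show k⁻¹ * r * k = r by rw [mul_assoc, hr', inv_mul_cancel_left]]
        _ = r := by rw [← e]; group
    have h2 : q ∈ Lv h y := by
      refine (mem_Lv h).mpr ⟨hqz, fun r hr => ?_⟩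
      have hkinv : h.ρ k⁻¹ ∈ Penta.stab y := by
        rw [h.ρ_inv hkz]; exact inv_mem (rho_stab h P hk).1
      have hr1 := hnormx (h.inv_comm hkz) hkinv r hr
      rw [inv_inv] at hr1
      have e := hcQ _ hr1
      have hr' := hcQ r hr
      refine (mul_inv_eq_iff_eq_mul.mp ?_).symm
      calc q * r * q⁻¹ = c⁻¹ * (k * (c * (k⁻¹ * r * k) * c⁻¹) * k⁻¹) * c := by rw [hq]; group
        _ = c⁻¹ * r * c := by
          rw [← e]; group
        _ = r := by rw [mul_assoc, hr', inv_mul_cancel_left]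
    have hy := (mem_Lv_Q h P hqQ).mp h1
    have hx := (mem_Lv_Q h P' hqQ).mp h2
    have hπ : h.π q = 0 := by
      rw [P.expand (h.π q)]
      simp [comp4, cf, hx.2, hy.2]
    rcases (h.π_zero q hqQ).mp hπ with e | e
    · left
      rw [← mul_inv_cancel_left c (k * c * k⁻¹), ← hq, e, mul_one]
    · right
      rw [← mul_inv_cancel_left c (k * c * k⁻¹), ← hq, e]
  -- the elements of the level commuting with `c`
  set S : Subgroup G := Lv h x ⊓ centralizer ({c} : Set G) with hS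
  have hQp : ∀ r ∈ Qp h y, r ∈ S := fun r hr =>
    mem_inf.mpr ⟨(mem_Lv_Q h P hr.1).mpr hr, mem_centralizer_singleton_iff.mpr (hcQ r hr)⟩
  have htop := even_generated P ((S.subgroupOf (Lv h x)).map (rhoL h P)) (fun g hg => by
    obtain ⟨d, hd, hde⟩ := exists_lift h P D g.2
    have hdz := Lv_z h hd
    have h3 : d ^ 3 ∈ Q := (h.ρ_ker _ ((show Commute d z from hdz).pow_left 3).eq).mp (by
      rw [h.ρ_pow hdz, hde, ← SubmonoidClass.coe_pow, hg]; rfl)
    have h12 : (d ^ 4) ^ 3 = 1 := by rw [← pow_mul, show 4 * 3 = 3 * 4 from rfl, pow_mul, h.pow_four h3]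
    have hd4 : d ^ 4 ∈ S := mem_inf.mpr ⟨pow_mem hd 4, mem_centralizer_singleton_iff.mpr
      (commute_of_odd h (hbase _ (pow_mem hd 4)) (Lv_z h (pow_mem hd 4)) (by decide) h12)⟩
    refine ⟨⟨d ^ 4, pow_mem hd 4⟩, hd4, Subtype.ext ?_⟩
    show h.ρ (d ^ 4) = (g : O phi)
    rw [h.ρ_pow hdz, hde, ← SubmonoidClass.coe_pow, pow_succ, hg, one_mul])
  obtain ⟨⟨k', hk'L⟩, hk'S, hk'e⟩ := htop.ge (mem_top (rhoL h P ⟨k, hk⟩))
  have hk'S' : k' ∈ S := hk'S
  have hρe : h.ρ k' = h.ρ k := congrArg Subtype.val hk'e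
  have hkk : k'⁻¹ * k ∈ Q := (h.ρ_ker _ (h.mul_comm' (h.inv_comm (Lv_z h hk'L)) (Lv_z h hk))).mp (by
    rw [h.ρ_mul _ _ (h.inv_comm (Lv_z h hk'L)) (Lv_z h hk), h.ρ_inv (Lv_z h hk'L), hρe,
      inv_mul_cancel])
  have := mul_mem hk'S' (hQp _ ((mem_Lv_Q h P hkk).mp (mul_mem (inv_mem hk'L) hk)))
  rw [mul_inv_cancel_left] at this
  exact mem_centralizer_singleton_iff.mp (mem_inf.mp this).2

end Cfsg.Agent.H13.ConwayFive
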