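import Cfsg.Agent.H13.ConwayFive.Levels
import Cfsg.Agent.H73.Conway.Core

/-!
The centraliser of `z` and of an element of order five in standard form, and two elements of the
centraliser of that element coming from a swapped pair.
-/

set_option autoImplicit false
set_option linter.style.haveILetI false
set_option linter.unusedSectionVars false
set_option maxRecDepth 100000

namespace Cfsg.Agent.H13.ConwayFive

open QuadraticMap Cfsg.Agent.Orthogonal Cfsg.Agent.H73.Conway Cfsg.Agent.H92.ExtraForm Subgroup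

variable {G : Type*} [Group G] [Finite G] {z : G} {Q : Subgroup G}

/-- An element of order five in standard form. -/
structure Five (h : H73.Conway.Setup z Q) (b : G) : Prop where
  bz : b * z = z * b
  b5 : b ^ 5 = 1
  ρb : h.ρ b = beta

theorem beta_pow_xM (n : ℕ) (i : Fin 5) :
    ((beta ^ n : O phi) : V8 ≃ₗ[ZMod 2] V8) (xM i) = xM (i + Fin.ofNat 5 n) := by
  induction n generalizing i with
  | zero => rw [show i + Fin.ofNat 5 0 = i by revert i; decide]; rfl
  | succ n ih =>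
    rw [pow_succ, mul_app', beta_xM, ih]
    congr 1
    ext
    simp [Fin.val_add, Fin.ofNat]
    omega

/-- An element of order five commutes with an element it multiplies by a commuting involution. -/
theorem commute_of_five {c x t : G} (he : c * x * c⁻¹ = x * t) (hct : c * t = t * c)
    (ht : t * t = 1) (h5 : c ^ 5 = 1) : c * x = x * c := by
  have hk : ∀ m : ℕ, c ^ m * x * (c ^ m)⁻¹ = x * t ^ m := by
    intro m
    induction m with
    | zero => simp
    | succ m ih =>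
      calc c ^ (m + 1) * x * (c ^ (m + 1))⁻¹ = c * (c ^ m * x * (c ^ m)⁻¹) * c⁻¹ := by
            rw [pow_succ']; group
        _ = (c * x * c⁻¹) * (c * t ^ m * c⁻¹) := by rw [ih]; group
        _ = x * t * t ^ m := by rw [he, ((show Commute c t from hct).pow_right m).eq]; group
        _ = x * t ^ (m + 1) := by rw [pow_succ', mul_assoc]
  have e := hk 5
  rw [h5, show t ^ 5 = (t * t) * (t * t) * t by simp [pow_succ, mul_assoc], ht] at e
  simp only [one_mul, inv_one, mul_one] at e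
  rw [left_eq_mul.mp e, mul_one] at he
  exact mul_inv_eq_iff_eq_mul.mp he

namespace Five

variable {h : H73.Conway.Setup z Q} {b : G} (F : Five h b)
include F

theorem b_ne : b ≠ 1 := fun e => beta_ne (by rw [← F.ρb, e, h.ρ_one])

theorem mem_Qp {q : G} (hq : q ∈ Q) : q * b = b * q ↔ q ∈ Qp h xM := by
  constructor
  · intro e
    refine ⟨hq, (beta_fix_iff _).mp ?_⟩
    rw [← F.ρb, ← h.ρ_π b F.bz q hq, ← e, mul_inv_cancel_right]
  · intro hm
    exact fixed_of_pi h F.bz F.b5 hq (by rw [F.ρb]; exact (beta_fix_iff _).mpr hm.2)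

theorem b_mem : b ∈ Lv h xM :=
  (mem_Lv h).mpr ⟨F.bz, fun _ hq => (F.mem_Qp hq.1).mpr hq⟩

theorem comm_H0 {k : G} (hk : k ∈ Lv h xF) : k * b = b * k :=
  commute_levels h penta_F penta_M dual_M hk F.b_mem

theorem eq_one_of_pow {i : ℕ} (hi : b ^ i ∈ Lv h xF) : b ^ i = 1 := by
  have e := (rho_stab h penta_F hi).1 0
  rw [h.ρ_pow F.bz, F.ρb, beta_pow_xM, zero_add] at e
  have e' := congrArg Fin.val (penta_M.inj _ _ e)
  simp only [Fin.val_zero, Fin.ofNat] at e'
  obtain ⟨k, rfl⟩ : 5 ∣ i := Nat.dvd_of_mod_eq_zero e'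
  rw [pow_mul, F.b5, one_pow]

/-- The centraliser of `z` and `b` is the level times the powers of `b`. -/
theorem decomp {c : G} (hcz : c * z = z * c) (hcb : c * b = b * c) :
    ∃ i : ℕ, c * b ^ i ∈ Lv h xF := by
  classical
  set g := h.ρ c with hg
  have hgb : g * beta = beta * g := by
    rw [hg, ← F.ρb, ← h.ρ_mul _ _ hcz F.bz, hcb, h.ρ_mul _ _ F.bz hcz]
  have hperp : ∀ i j, pV ((g : V8 ≃ₗ[ZMod 2] V8) (xF i)) (xM j) = 0 := fun i =>
    (beta_fix_iff _).mp (by rw [← mul_app', ← hgb, mul_app', beta_xF])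
  have hpts : ∀ i, ∃ j, (g : V8 ≃ₗ[ZMod 2] V8) (xF i) = xF j := fun i =>
    penta_F.pts _ (by rw [← phi_eq, O.map_app, phi_eq, penta_F.sing])
      (fun e => penta_F.ne i ((LinearEquiv.map_eq_zero_iff _).mp e)) (hperp i)
  choose σ hσ using hpts
  have hσs : Function.Surjective σ := Finite.injective_iff_surjective.mp fun i i' e =>
    penta_F.inj _ _ ((g : V8 ≃ₗ[ZMod 2] V8).injective (by rw [hσ, hσ, e]))
  obtain ⟨j, hj⟩ : ∃ j, (g : V8 ≃ₗ[ZMod 2] V8) (xM 0) = xM j :=
    penta_M.pts _ (by rw [← phi_eq, O.map_app, phi_eq, penta_M.sing])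
      (fun e => penta_M.ne 0 ((LinearEquiv.map_eq_zero_iff _).mp e)) (fun k => by
        obtain ⟨i, rfl⟩ := hσs k
        rw [← hσ, pV_app, penta_M.cross])
  refine ⟨(-j).val, ?_⟩
  have hofn : Fin.ofNat 5 (-j).val = -j := Fin.ext (by simp [Fin.ofNat])
  have hc' : c * b ^ (-j).val * z = z * (c * b ^ (-j).val) :=
    h.mul_comm' hcz ((show Commute b z from F.bz).pow_left _).eq
  have hρ' : h.ρ (c * b ^ (-j).val) = g * beta ^ (-j).val := by
    rw [h.ρ_mul _ _ hcz ((show Commute b z from F.bz).pow_left _).eq, h.ρ_pow F.bz, F.ρb, hg]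
  have hgp : ∀ n : ℕ, g * beta ^ n = beta ^ n * g := fun n =>
    ((show Commute g beta from hgb).pow_right n).eq
  have h0 : ((g * beta ^ (-j).val : O phi) : V8 ≃ₗ[ZMod 2] V8) (xM 0) = xM 0 := by
    rw [hgp, mul_app', hj, beta_pow_xM, hofn, add_neg_cancel]
  have hfix : ∀ k : Fin 5, ((g * beta ^ (-j).val : O phi) : V8 ≃ₗ[ZMod 2] V8) (xM k) = xM k := by
    intro k
    have hk : xM k = ((beta ^ k.val : O phi) : V8 ≃ₗ[ZMod 2] V8) (xM 0) := by
      rw [beta_pow_xM, zero_add]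
      congr 1
      ext
      simp [Fin.ofNat, Nat.mod_eq_of_lt k.isLt]
    rw [hk, ← mul_app', show g * beta ^ (-j).val * beta ^ k.val =
      beta ^ k.val * (g * beta ^ (-j).val) by
        rw [mul_assoc, ← pow_add, Nat.add_comm, pow_add, ← mul_assoc, hgp k.val, mul_assoc],
      mul_app', h0]
  obtain ⟨k, hk, hkρ⟩ := exists_lift h penta_F dual_M
    (k := h.ρ (c * b ^ (-j).val)) ⟨by rw [hρ']; exact hfix, h.ρ_mem _ hc'⟩
  have hkz := Lv_z h hk
  have hq : k⁻¹ * (c * b ^ (-j).val) ∈ Q := (h.ρ_ker _ (h.mul_comm' (h.inv_comm hkz) hc')).mp (by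
    rw [h.ρ_mul _ _ (h.inv_comm hkz) hc', h.ρ_inv hkz, hkρ, inv_mul_cancel])
  have hqb : k⁻¹ * (c * b ^ (-j).val) * b = b * (k⁻¹ * (c * b ^ (-j).val)) :=
    ((show Commute k b from F.comm_H0 hk).inv_left.mul_left
      ((show Commute c b from hcb).mul_left ((Commute.refl b).pow_left _))).eq
  have := mul_mem hk ((mem_Lv_Q h penta_F hq).mpr ((F.mem_Qp hq).mp hqb))
  rwa [mul_inv_cancel_left] at this

theorem mem_of_four {c : G} (hcz : c * z = z * c) (hcb : c * b = b * c) (h4 : c ^ 4 = 1) :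
    c ∈ Lv h xF := by
  obtain ⟨i, hi⟩ := F.decomp hcz hcb
  have h4i : b ^ (4 * i) ∈ Lv h xF := by
    have := pow_mem hi 4
    rwa [((show Commute c b from hcb).pow_right i).mul_pow, h4, one_mul, ← pow_mul,
      mul_comm] at this
  have e4 := F.eq_one_of_pow h4i
  have e : b ^ i = 1 := by
    calc b ^ i = b ^ (5 * i) * (b ^ (4 * i))⁻¹ := by
          rw [eq_mul_inv_iff_mul_eq, ← pow_add]; ring_nf
      _ = 1 := by rw [pow_mul, F.b5, one_pow, e4, mul_inv_cancel]
  rwa [e, mul_one] at hi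

variable {s w : G} (P : Pair h s w)
include P

theorem s_mem : s ∈ Qp h xM :=
  ⟨P.hs, fun i => by rw [P.hπ]; exact penta_F.cross 0 i⟩

theorem sb : s * b = b * s := (F.mem_Qp P.hs).mpr (F.s_mem P)

/-- Elements of `B` with a fixed residue lie in the level. -/
theorem exists_bu {u : U6} (hu : ∀ i, pV (emb u) (xM i) = 0) :
    ∃ c, InB z Q w c ∧ theta h c = u ∧ c ∈ Lv h xF := by
  obtain ⟨c, hc, hcu⟩ := P.exists_B u
  have hsb := F.sb P
  have hB := P.InB_conj F.bz hsb.symm hc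
  have hθ : theta h (b * c * b⁻¹) = theta h c := by
    rw [P.theta_conj F.bz hsb.symm hc, hcu, F.ρb]
    show ((beta : V8 ≃ₗ[ZMod 2] V8) (emb u)).2 = u
    rw [(beta_fix_iff _).mpr hu]
    rfl
  obtain ⟨i, j, he⟩ := P.eq_mul_tt_B hc hB hθ.symm
  have hbt : Commute b (tt z s i j) := by
    refine (show Commute b (zp z i) from ?_).mul_right (show Commute b (zp s j) from ?_) <;>
      unfold zp <;> split_ifs
    exacts [Commute.one_right _, F.bz, Commute.one_right _, hsb.symm]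
  have hcb : b * c = c * b := commute_of_five he hbt.eq
    (by rw [P.tt_mul, CharTwo.add_self_eq_zero, CharTwo.add_self_eq_zero]; simp [tt, zp]) F.b5
  refine ⟨c, hc, hcu, F.mem_of_four hc.2 hcb.symm ?_⟩
  rw [show (4 : ℕ) = 2 * 2 from rfl, pow_mul, pow_two, pow_two, P.sq_B hc, P.tt_mul,
    CharTwo.add_self_eq_zero, CharTwo.add_self_eq_zero]
  simp [tt, zp]

/-- An element commuting with `b` sending `z` to `z s`, in the core of `s`. -/
theorem exists_f : ∃ q ∈ Q, (h.π q).1.2 = 1 ∧ (w * q * w⁻¹) * b = b * (w * q * w⁻¹) ∧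
    (w * q * w⁻¹) * z * (w * q * w⁻¹)⁻¹ = z * s ∧ (w * q * w⁻¹) * s = s * (w * q * w⁻¹) := by
  have hsb := F.sb P
  set b' := w⁻¹ * b * w with hb'
  have hb'z : b' * z = z * b' := P.conj_w_C F.bz hsb.symm
  have hb'5 : b' ^ 5 = 1 := by
    rw [hb', show w⁻¹ * b * w = w⁻¹ * b * w⁻¹⁻¹ by group, conj_pow, F.b5, mul_one, mul_inv_cancel]
  have hb's : b' * s = s * b' := by
    rw [hb', ← P.w_z]
    calc w⁻¹ * b * w * (w⁻¹ * z * w) = w⁻¹ * (b * z) * w := by group
      _ = w⁻¹ * z * w * (w⁻¹ * b * w) := by rw [F.bz]; group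
  set β := h.ρ b' with hβ
  have hβ5 : β ^ 5 = 1 := by rw [hβ, ← h.ρ_pow hb'z, hb'5, h.ρ_one]
  have hβv : (β : V8 ≃ₗ[ZMod 2] V8) v0 = v0 := P.rho_fix hb'z hb's
  set a : ℕ → V8 := fun n => ((β ^ n : O phi) : V8 ≃ₗ[ZMod 2] V8) f0 with ha
  have hstep : ∀ n, (β : V8 ≃ₗ[ZMod 2] V8) (a n) = a (n + 1) := fun n => by
    simp only [ha, pow_succ']
    rfl
  have ha0 : a 0 = f0 := by simp only [ha, pow_zero]; rfl
  have ha5 : a 5 = f0 := by simp only [ha, hβ5]; rfl
  have hpol : ∀ n, (a n).1.2 = 1 := by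
    intro n
    induction n with
    | zero => rw [ha0]; rfl
    | succ n ih => rw [← hstep, ← polar_v0, polar_fixed hβv, polar_v0, ih]
  obtain ⟨q, hq, hqy⟩ := h.π_surj (a 0 + a 1 + a 2 + a 3 + a 4)
  have hqb : q * b' = b' * q := fixed_of_pi h hb'z hb'5 hq (by
    rw [hqy, ← hβ]
    simp only [map_add, hstep]
    rw [ha5, ha0]
    abel)
  have hd : (h.π q).1.2 = 1 := by
    rw [hqy]
    simp only [Prod.fst_add, Prod.snd_add, hpol]
    decide
  have hqs : q * s * q⁻¹ = s * z := by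
    have hns : ¬ q * s = s * q := fun e => by
      rw [P.commA hq, hd] at e
      exact one_ne_zero e
    rcases h.π_eq P.hs (h.norm q (h.le q hq) s P.hs)
      (by rw [h.ρ_π q (h.le q hq) s P.hs, h.ρ_Q hq]; rfl) with e | e
    · exact absurd (mul_inv_eq_iff_eq_mul.mp e) hns
    · exact e
  have hqz : q * z * q⁻¹ = z := mul_inv_eq_iff_eq_mul.mpr (h.le q hq)
  refine ⟨q, hq, hd, ?_, ?_, ?_⟩
  · calc w * q * w⁻¹ * b = w * (q * b') * w⁻¹ := by rw [hb']; group
      _ = b * (w * q * w⁻¹) := by rw [hqb, hb']; group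
  · calc w * q * w⁻¹ * z * (w * q * w⁻¹)⁻¹ = w * (q * (w⁻¹ * z * w) * q⁻¹) * w⁻¹ := by group
      _ = (w * s * w⁻¹) * (w * z * w⁻¹) := by rw [P.w_z, hqs]; group
      _ = z * s := by rw [P.hw2, P.hw1]
  · rw [← mul_inv_eq_iff_eq_mul]
    calc w * q * w⁻¹ * s * (w * q * w⁻¹)⁻¹ = w * (q * (w⁻¹ * s * w) * q⁻¹) * w⁻¹ := by group
      _ = s := by rw [P.w_s, hqz, P.hw1]

end Five

end Cfsg.Agent.H13.ConwayFive
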