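import Cfsg.Agent.H13.ConwayFive.JTwo
import Cfsg.Agent.Components.Basic
import Cfsg.Agent.Compute.J2.Facts

/-!
The layer of the centraliser of an element of order five in standard form is the Hall–Janko group
and its centraliser is alternating of degree five.
-/

set_option autoImplicit false
set_option linter.style.haveILetI false
set_option linter.unusedSectionVars false
set_option maxRecDepth 100000

namespace Cfsg.Agent.H13.ConwayFive

open scoped commutatorElement
open QuadraticMap Cfsg.Agent.Orthogonal Cfsg.Agent.H73.Conway Cfsg.Agent.H92.ExtraForm Subgroup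

variable {G : Type*} [Group G] [Finite G] {z : G} {Q : Subgroup G}

/-- A simple non-abelian group is quasisimple. -/
theorem qs_of_simple {H : Type*} [Group H] [IsSimpleGroup H] (hne : ∃ a b : H, a * b ≠ b * a) :
    Cfsg.IsQuasisimple H := by
  obtain ⟨a, b, hab⟩ := hne
  have hc : Subgroup.center H = ⊥ :=
    (IsSimpleGroup.eq_bot_or_eq_top_of_normal (Subgroup.center H) inferInstance).resolve_right
      fun e => hab (mem_center_iff.mp (e ▸ mem_top b) a)
  have hq : IsSimpleGroup (H ⧸ Subgroup.center H) := by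
    have hi : Function.Injective (QuotientGroup.mk' (Subgroup.center H)) := by
      rw [← MonoidHom.ker_eq_bot_iff, QuotientGroup.ker_mk', hc]
    have hb : Function.Bijective (QuotientGroup.mk' (Subgroup.center H)) :=
      ⟨hi, QuotientGroup.mk'_surjective _⟩
    haveI : Nontrivial (H ⧸ Subgroup.center H) := hi.nontrivial
    exact IsSimpleGroup.isSimpleGroup_of_surjective _ hb.2
  refine ⟨⟨?_⟩, hq⟩
  refine (IsSimpleGroup.eq_bot_or_eq_top_of_normal (commutator H) inferInstance).resolve_left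
    fun e => hab ?_
  have h1 : ⁅a, b⁆ ∈ commutator H := commutator_mem_commutator (mem_top a) (mem_top b)
  rw [e, mem_bot] at h1
  exact commutatorElement_eq_one_iff_mul_comm.mp h1

/-- An element of order five in a subgroup of the powers. -/
theorem exists_nat_pow {b c : G} (hc : c ∈ zpowers b) : ∃ n : ℕ, b ^ n = c := by
  obtain ⟨k, hk⟩ := mem_zpowers_iff.mp hc
  exact ⟨(k % orderOf b).toNat, by
    rw [← zpow_natCast, Int.toNat_of_nonneg (Int.emod_nonneg _ (by exact_mod_cast (orderOf_pos b).ne')),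
      zpow_mod_orderOf, hk]⟩

namespace Five

variable {h : H73.Conway.Setup z Q} {b : G} (F : Five h b)
include F

theorem pow_one_of_sq {i : ℕ} {x : G} (hbx : b * x = x * b) (hx : x * x = 1) {y : G}
    (hy : y * y = 1) (e : y = b ^ i * x) : b ^ i = 1 := by
  have h2 : b ^ (2 * i) = 1 := by
    calc b ^ (2 * i) = b ^ i * b ^ i * (x * x) := by rw [hx, mul_one, two_mul, pow_add]
      _ = b ^ i * (b ^ i * x) * x := by group
      _ = b ^ i * (x * b ^ i) * x := by rw [((show Commute b x from hbx).pow_left i).eq]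
      _ = (b ^ i * x) * (b ^ i * x) := by group
      _ = 1 := by rw [← e, hy]
  calc b ^ i = (b ^ 5) ^ i * ((b ^ (2 * i)) ^ 2)⁻¹ := by
        rw [eq_mul_inv_iff_mul_eq, ← pow_mul, ← pow_mul, ← pow_add]; ring_nf
    _ = 1 := by rw [F.b5, h2]; simp

theorem exists_layer : ∃ Y : Subgroup G, Y ≤ centralizer ({b} : Set G) ∧ Cfsg.Spor.IsoJ2 Y ∧
    (∀ g ∈ centralizer ({b} : Set G), ∃ i : ℕ, g * b ^ i ∈ Y) ∧
    Nonempty (↥(centralizer (Y : Set G)) ≃* alternatingGroup (Fin 5)) := by
  classical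
  obtain ⟨s, w, P⟩ := exists_setup_pair h
  obtain ⟨q, hq, hd, hfb, hfz, hfs⟩ := F.exists_f P
  obtain ⟨eD⟩ := F.D_iso P hq hd hfb hfz hfs
  set f := w * q * w⁻¹
  set D := Lv h xM ⊓ centralizer ({f} : Set G) with hD
  set C := centralizer ({b} : Set G) with hC
  set Y := Lv h xF ⊔ zpowers f with hY
  have hLC : Lv h xF ≤ C := fun k hk => mem_centralizer_singleton_iff.mpr (F.comm_H0 hk)
  have hfC : f ∈ C := mem_centralizer_singleton_iff.mpr hfb
  have hYC : Y ≤ C := sup_le hLC (zpowers_le.mpr hfC)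
  have hYD : Y ≤ centralizer (D : Set G) := by
    refine sup_le (fun k hk => mem_centralizer_iff.mpr fun d hd' => ?_)
      (zpowers_le.mpr (mem_centralizer_iff.mpr fun d hd' => ?_))
    · exact (commute_levels h penta_F penta_M dual_M hk (mem_inf.mp hd').1).symm
    · exact mem_centralizer_singleton_iff.mp (mem_inf.mp hd').2
  have hLY : Lv h xF ≤ Y := le_sup_left
  have hfY : f ∈ Y := mem_sup_right (mem_zpowers f)
  have hzL : z ∈ Lv h xF := (mem_Lv_Q h penta_F h.hzQ).mpr
    ⟨h.hzQ, fun i => by rw [h.π_z, ← polar_eq, polar_zero_left]⟩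
  have hzY : z ∈ Y := hLY hzL
  have hbD : b ∈ D := mem_inf.mpr ⟨F.b_mem, mem_centralizer_singleton_iff.mpr hfb.symm⟩
  have hcen : ∀ x ∈ D, x ∈ Y → x = 1 := by
    intro x hx hxY
    have hxc : (⟨x, hx⟩ : D) ∈ Subgroup.center D := mem_center_iff.mpr fun d =>
      Subtype.ext (mem_centralizer_iff.mp (hYD hxY) d d.2)
    haveI : IsSimpleGroup (alternatingGroup (Fin 5)) := alternatingGroup.isSimpleGroup (by simp)
    have hc : Subgroup.center (alternatingGroup (Fin 5)) = ⊥ :=
      (IsSimpleGroup.eq_bot_or_eq_top_of_normal (Subgroup.center _) inferInstance).resolve_right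
        fun e => by
          have : ∃ a c : alternatingGroup (Fin 5), a * c ≠ c * a := by decide +kernel
          obtain ⟨a, c, hac⟩ := this
          exact hac (mem_center_iff.mp (e ▸ mem_top c) a)
    have hm : eD ⟨x, hx⟩ ∈ Subgroup.center (alternatingGroup (Fin 5)) :=
      mem_center_iff.mpr fun a => by
        obtain ⟨d, rfl⟩ := eD.surjective a
        rw [← map_mul, ← map_mul, mem_center_iff.mp hxc d]
    rw [hc, mem_bot, ← map_one eD, eD.injective.eq_iff] at hm
    exact congrArg Subtype.val hm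
  -- the group `Y`
  have J1 : Cfsg.Spor.IsoJ2 Y := F.isoJ2_hom P hfz hLY hfY (MonoidHom.id Y)
    (fun k _ e => congrArg Subtype.val e) (fun x c hc e => by
      have exz : (x : G) * z = z * (x : G) := hc ▸ congrArg Subtype.val e
      obtain ⟨i, hi⟩ := F.decomp exz (mem_centralizer_singleton_iff.mp (hYC x.2))
      have hbi : b ^ i ∈ Y := by
        have := mul_mem (inv_mem x.2) (hLY hi)
        rwa [inv_mul_cancel_left] at this
      rw [hcen _ (pow_mem hbD i) hbi, mul_one] at hi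
      exact ⟨x, hi, rfl⟩)
    (fun k c _ _ hc e => hc ▸ MonoidHom.map_isConj Y.subtype e)
  -- the quotient of the centraliser
  set N : Subgroup C := (zpowers b).subgroupOf C with hN
  haveI hNn : N.Normal := ⟨fun n hn g => by
    have e : g * n * g⁻¹ = n := by
      refine Subtype.ext ?_
      obtain ⟨i, hi⟩ := exists_nat_pow (show (n : G) ∈ zpowers b from hn)
      show (g : G) * (n : G) * (g : G)⁻¹ = (n : G)
      rw [← hi, ((show Commute (g : G) b from
        mem_centralizer_singleton_iff.mp g.2).pow_right i).eq, mul_inv_cancel_right]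
    rwa [e]⟩
  have hmk : ∀ {x y : C}, QuotientGroup.mk' N x = QuotientGroup.mk' N y →
      ∃ i : ℕ, (y : G) = b ^ i * (x : G) := by
    intro x y e
    obtain ⟨i, hi⟩ := exists_nat_pow (show ((x⁻¹ * y : C) : G) ∈ zpowers b from
      (QuotientGroup.eq (s := N) (a := x) (b := y)).mp e)
    refine ⟨i, ?_⟩
    rw [((show Commute (x : G) b from mem_centralizer_singleton_iff.mp x.2).pow_right i).eq.symm,
      hi]
    simp
  have hbN : ∀ i : ℕ, ∀ h' : b ^ i ∈ C, (⟨b ^ i, h'⟩ : C) ∈ N := fun i _ =>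
    pow_mem (mem_zpowers b) i
  have hbC : b ∈ C := mem_centralizer_singleton_iff.mpr rfl
  have J2' : Cfsg.Spor.IsoJ2 (C ⧸ N) := F.isoJ2_hom P hfz hLC hfC (QuotientGroup.mk' N)
    (fun k hk e => by
      obtain ⟨i, hi⟩ := hmk (x := k) (y := 1) (e.trans (map_one _).symm)
      have : b ^ i = (k : G)⁻¹ := eq_inv_of_mul_eq_one_left hi.symm
      rw [F.eq_one_of_pow (this ▸ inv_mem hk)] at this
      exact inv_eq_one.mp this.symm)
    (fun x c hc e => by
      obtain ⟨g, rfl⟩ := QuotientGroup.mk'_surjective N x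
      have e' : QuotientGroup.mk' N (g * c * g⁻¹) = QuotientGroup.mk' N c := by
        rw [map_mul, map_mul, map_inv, e, mul_inv_cancel_right]
      obtain ⟨i, hi⟩ := hmk e'.symm
      rw [Subgroup.coe_mul, Subgroup.coe_mul, Subgroup.coe_inv, hc] at hi
      rw [F.pow_one_of_sq F.bz h.zz (by rw [conj_mul, h.zz, mul_one, mul_inv_cancel]) hi,
        one_mul] at hi
      have hgb : (g : G) * b = b * (g : G) := mem_centralizer_singleton_iff.mp g.2
      obtain ⟨j, hj⟩ := F.decomp (mul_inv_eq_iff_eq_mul.mp hi) hgb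
      refine ⟨g * ⟨b ^ j, pow_mem hbC j⟩, hj, ?_⟩
      rw [map_mul, show QuotientGroup.mk' N ⟨b ^ j, pow_mem hbC j⟩ = 1 from
        (QuotientGroup.eq_one_iff _).mpr (hbN _ _), mul_one])
    (fun k c _ hkk hc e => by
      obtain ⟨x, hx⟩ := isConj_iff.mp e
      obtain ⟨g, rfl⟩ := QuotientGroup.mk'_surjective N x
      rw [← map_inv, ← map_mul, ← map_mul] at hx
      obtain ⟨i, hi⟩ := hmk hx.symm
      rw [Subgroup.coe_mul, Subgroup.coe_mul, Subgroup.coe_inv, hc] at hi
      have hkk' : (k : G) * (k : G) = 1 := congrArg Subtype.val hkk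
      rw [F.pow_one_of_sq F.bz h.zz (by rw [conj_mul, hkk', mul_one, mul_inv_cancel]) hi,
        one_mul] at hi
      exact isConj_iff.mpr ⟨g, hi⟩)
  refine ⟨Y, hYC, J1, fun g hg => ?_, ?_⟩
  · obtain ⟨e1⟩ := J1
    obtain ⟨e2⟩ := J2'
    let ψ : Y →* C ⧸ N := (QuotientGroup.mk' N).comp (Subgroup.inclusion hYC)
    have hψ : Function.Injective ψ := (injective_iff_map_eq_one ψ).mpr fun y hy => by
      obtain ⟨i, hi⟩ := exists_nat_pow (show (y : G) ∈ zpowers b from
        (QuotientGroup.eq_one_iff (N := N) (Subgroup.inclusion hYC y)).mp hy)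
      exact Subtype.ext (hi ▸ hcen _ (pow_mem hbD i) (hi ▸ y.2))
    have hb := (Nat.bijective_iff_injective_and_card ψ).mpr
      ⟨hψ, (Nat.card_congr e1.toEquiv).trans (Nat.card_congr e2.toEquiv).symm⟩
    obtain ⟨y, hy⟩ := hb.2 (QuotientGroup.mk' N ⟨g, hg⟩)
    obtain ⟨i, hi⟩ := hmk hy.symm
    refine ⟨i, ?_⟩
    have hgc : (g : G) * b ^ i = b ^ i * g :=
      ((show Commute g b from mem_centralizer_singleton_iff.mp hg).pow_right i).eq
    rw [hgc, show b ^ i * g = (y : G) from hi.symm]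
    exact y.2
  · refine ⟨(MulEquiv.subgroupCongr (le_antisymm (fun c hc => ?_)
      (le_centralizer_iff.mp hYD))).trans eD⟩
    rw [mem_centralizer_iff] at hc
    exact mem_inf.mpr ⟨(mem_Lv h).mpr ⟨(hc z hzY).symm, fun r hr =>
      hc r (hLY ((mem_Lv_Q h penta_F hr.1).mpr hr))⟩,
      mem_centralizer_singleton_iff.mpr (hc f hfY).symm⟩

/-- The layer of the centraliser. -/
theorem layer_spec : Cfsg.Spor.IsoJ2 ↥(Cfsg.layer ↥(centralizer ({b} : Set G))) ∧
    Nonempty (↥(centralizer (((Cfsg.layer ↥(centralizer ({b} : Set G))).map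
      (centralizer ({b} : Set G)).subtype : Subgroup G) : Set G)) ≃*
      alternatingGroup (Fin 5)) := by
  obtain ⟨Y, hYC, ⟨eY⟩, hdec, hcY⟩ := F.exists_layer
  set C := centralizer ({b} : Set G) with hC
  set Y' := Y.subgroupOf C with hY'
  have hbc : ∀ (i : ℕ) (x : C), Commute (b ^ i) (x : G) := fun i x =>
    ((show Commute b (x : G) from (mem_centralizer_singleton_iff.mp x.2).symm).pow_left i)
  have hsplit : ∀ x : C, ∃ (i : ℕ) (y : G), y ∈ Y ∧ (x : G) = y * b ^ i := fun x => by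
    obtain ⟨i, hi⟩ := hdec x x.2
    refine ⟨(orderOf b - 1) * i, _, hi, ?_⟩
    rw [mul_assoc, ← pow_add, show i + (orderOf b - 1) * i = orderOf b * i by
      rw [Nat.sub_mul, one_mul, Nat.add_sub_cancel' (Nat.le_mul_of_pos_left i (orderOf_pos b))],
      pow_mul, pow_orderOf_eq_one, one_pow, mul_one]
  have hmem : ∀ (y : G), y ∈ Y → ∀ i : ℕ, Commute (b ^ i) y := fun y hy i => hbc i ⟨y, hYC hy⟩
  have hn : Y'.Normal := ⟨fun n hn g => by
    obtain ⟨i, y, hy, e⟩ := hsplit g
    show (g : G) * (n : G) * (g : G)⁻¹ ∈ Y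
    rw [e, mul_inv_rev, mul_assoc y (b ^ i), (hmem (n : G) hn i).eq,
      show y * ((n : G) * b ^ i) * ((b ^ i)⁻¹ * y⁻¹) = y * n * y⁻¹ by group]
    exact mul_mem (mul_mem hy hn) (inv_mem hy)⟩
  let e' : Y' ≃* Cfsg.Spor.J2 := (Subgroup.subgroupOfEquivOfLe hYC).trans eY
  haveI := Compute.J2.isSimple_J2
  haveI : IsSimpleGroup Y' := e'.isSimpleGroup
  have hqs : Cfsg.IsQuasisimple Y' := qs_of_simple (by
    obtain ⟨a, c, hac⟩ := Compute.J2.exists_noncomm
    exact ⟨e'.symm a, e'.symm c, fun e => hac (by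
      simpa using congrArg e' e)⟩)
  have hL : Cfsg.layer C = Y' := by
    refine le_antisymm ?_ (Components.component_le_layer ⟨hn.isSubnormal, hqs⟩)
    rw [← Components.layer_perfect, Subgroup.commutator_le]
    intro x _ x' _
    obtain ⟨i, y, hy, e⟩ := hsplit x
    obtain ⟨i', y', hy', e''⟩ := hsplit x'
    show (⁅x, x'⁆ : C).1 ∈ Y
    have : ((⁅x, x'⁆ : C) : G) = ⁅y, y'⁆ := by
      show (x : G) * x' * (x : G)⁻¹ * (x' : G)⁻¹ = y * y' * y⁻¹ * y'⁻¹
      have c1 := (hmem y' hy' i).eq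
      have c2 := (hmem _ (inv_mem hy) i').eq
      rw [e, e'']
      calc y * b ^ i * (y' * b ^ i') * (y * b ^ i)⁻¹ * (y' * b ^ i')⁻¹
          = y * (b ^ i * y') * (b ^ i' * (b ^ i)⁻¹) * y⁻¹ * (b ^ i')⁻¹ * y'⁻¹ := by group
        _ = y * y' * (b ^ i * b ^ i' * (b ^ i)⁻¹) * y⁻¹ * (b ^ i')⁻¹ * y'⁻¹ := by rw [c1]; group
        _ = y * y' * (b ^ i' * y⁻¹) * (b ^ i')⁻¹ * y'⁻¹ := by
          rw [← pow_add, Nat.add_comm, pow_add, mul_inv_cancel_right]; group
        _ = y * y' * y⁻¹ * y'⁻¹ := by rw [c2]; group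
    rw [this]
    exact mul_mem (mul_mem (mul_mem hy hy') (inv_mem hy)) (inv_mem hy')
  rw [hL, Components.map_subgroupOf hYC]
  exact ⟨⟨e'⟩, hcY⟩

end Five

end Cfsg.Agent.H13.ConwayFive
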