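import Cfsg.Agent.H13.ConwayFive.Space
import Cfsg.Agent.H73.Conway.Basic
import Cfsg.Agent.Orthogonal.Witt

/-!
An element of order five with a fixed space of dimension four can be put in standard form.
-/

set_option autoImplicit false
set_option linter.style.haveILetI false
set_option linter.unusedSectionVars false
set_option maxRecDepth 100000

namespace Cfsg.Agent.H13.ConwayFive

open QuadraticMap Cfsg.Agent.Orthogonal Cfsg.Agent.H73.Conway Cfsg.Agent.H92.ExtraForm Subgroup

variable {G : Type*} [Group G] [Finite G] {z : G} {Q : Subgroup G}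

/-- The Setup transported by an isometry. -/
noncomputable def twist (h : H73.Conway.Setup z Q) (g : O phi) : H73.Conway.Setup z Q where
  hzo := h.hzo
  hzQ := h.hzQ
  le := h.le
  norm := h.norm
  π q := (g : V8 ≃ₗ[ZMod 2] V8) (h.π q)
  π_mul a ha b hb := by rw [h.π_mul a ha b hb, map_add]
  π_surj v := by
    obtain ⟨q, hq, he⟩ := h.π_surj (((g⁻¹ : O phi) : V8 ≃ₗ[ZMod 2] V8) v)
    exact ⟨q, hq, by rw [he, ← mul_app', mul_inv_cancel]; rfl⟩
  π_zero q hq := by rw [LinearEquiv.map_eq_zero_iff]; exact h.π_zero q hq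
  sq q hq := by rw [O.map_app]; exact h.sq q hq
  comm q hq r hr := by rw [O.polar_app]; exact h.comm q hq r hr
  ρ c := g * h.ρ c * g⁻¹
  ρ_mul c d hc hd := by rw [h.ρ_mul c d hc hd]; group
  ρ_π c hc q hq := by
    rw [h.ρ_π c hc q hq, mul_app', mul_app', inv_app]
  ρ_ker c hc := by rw [conj_eq_one_iff]; exact h.ρ_ker c hc
  ρ_mem c hc := (inferInstance : (commutator (O phi)).Normal).conj_mem _ (h.ρ_mem c hc) g
  ρ_surj k hk := by
    obtain ⟨c, hc, he⟩ := h.ρ_surj _ ((inferInstance : (commutator (O phi)).Normal).conj_mem _ hk g⁻¹)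
    exact ⟨c, hc, by rw [he]; group⟩
  nwc := h.nwc

/-- An odd element commutes with an element it fixes up to `z`. -/
theorem fixed_of_pi (h : H73.Conway.Setup z Q) {b q : G} (hb : b * z = z * b) (h5 : b ^ 5 = 1)
    (hq : q ∈ Q) (hfix : (h.ρ b : V8 ≃ₗ[ZMod 2] V8) (h.π q) = h.π q) : q * b = b * q := by
  rcases h.π_eq hq (h.norm b hb q hq) (by rw [h.ρ_π b hb q hq, hfix]) with e | e
  · exact (mul_inv_eq_iff_eq_mul.mp e).symm
  · exfalso
    have hzb : ∀ n : ℕ, b ^ n * q * (b ^ n)⁻¹ = q * z ^ n := by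
      intro n
      induction n with
      | zero => simp
      | succ n ih =>
        calc b ^ (n + 1) * q * (b ^ (n + 1))⁻¹ = b * (b ^ n * q * (b ^ n)⁻¹) * b⁻¹ := by
              rw [pow_succ']; group
          _ = (b * q * b⁻¹) * (b * z ^ n * b⁻¹) := by rw [ih]; group
          _ = q * z * z ^ n := by rw [e, ((show Commute b z from hb).pow_right n).eq]; group
          _ = q * z ^ (n + 1) := by rw [pow_succ', mul_assoc]
    have h5' := hzb 5
    rw [h5, show z ^ 5 = z by rw [pow_succ, pow_succ, mul_assoc, h.zz, pow_succ, pow_succ]; simp [h.zz]] at h5'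
    simp only [one_mul, inv_one, mul_one] at h5'
    exact h.z_ne (left_eq_mul.mp h5')

theorem gram_four : ∀ c : Fin 4 → ZMod 2, (∀ j : Fin 4, (∑ i : Fin 4, c i * if i = j then 0 else 1) = 0) →
    ∀ i, c i = 0 := by decide +kernel

theorem indep_four {w : Fin 4 → V8} (hq : ∀ i, phi (w i) = 0)
    (hp : ∀ i j, i ≠ j → polar (⇑phi) (w i) (w j) = 1) : LinearIndependent (ZMod 2) w := by
  refine Fintype.linearIndependent_iff.mpr fun c hc => gram_four c fun j => ?_
  have h := congrArg (fun v => phi.polarBilin v (w j)) hc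
  simp only [map_sum, LinearMap.sum_apply, map_smul, LinearMap.smul_apply, smul_eq_mul,
    map_zero, LinearMap.zero_apply, polarBilin_apply_apply] at h
  refine Eq.trans (Finset.sum_congr rfl fun i _ => ?_) h
  split_ifs with hij
  · rw [hij, polar_self, hq, smul_zero]
  · rw [hp i j hij]

theorem card_perp_M : (Finset.univ.filter fun v : V8 => ∀ i, pV v (xM i) = 0).card = 16 := by
  decide +kernel

theorem xM_sum : xM 4 = xM 0 + xM 1 + xM 2 + xM 3 := by decide +kernel

/-- Some power-orbit consists of singular vectors with polar values one. -/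
theorem exists_orbit {β : O phi} (h5 : β ^ 5 = 1) (h1 : β ≠ 1) :
    ∃ x : V8, (∀ v, (β : V8 ≃ₗ[ZMod 2] V8) v = v → polar (⇑phi) x v = 0) ∧
      phi x = 0 ∧ polar (⇑phi) x ((β : V8 ≃ₗ[ZMod 2] V8) x) = 1 ∧
      polar (⇑phi) x (((β ^ 2 : O phi) : V8 ≃ₗ[ZMod 2] V8) x) = 1 ∧
      x + (β : V8 ≃ₗ[ZMod 2] V8) x + ((β ^ 2 : O phi) : V8 ≃ₗ[ZMod 2] V8) x +
        ((β ^ 3 : O phi) : V8 ≃ₗ[ZMod 2] V8) x + ((β ^ 4 : O phi) : V8 ≃ₗ[ZMod 2] V8) x = 0 := by
  set a : ℕ → V8 → V8 := fun n v => ((β ^ n : O phi) : V8 ≃ₗ[ZMod 2] V8) v with ha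
  have a0' : ∀ v, a 0 v = v := fun v => by simp only [ha, pow_zero]; rfl
  have aa : ∀ m n v, a m (a n v) = a (m + n) v := fun m n v => by
    simp only [ha, pow_add]; rfl
  have a5 : ∀ n v, a (n + 5) v = a n v := fun n v => by
    simp only [ha, pow_add, h5, mul_one]
  have aadd : ∀ n v v', a n (v + v') = a n v + a n v' := fun n v v' => map_add _ _ _
  have apol : ∀ n v v', polar (⇑phi) (a n v) (a n v') = polar (⇑phi) v v' := fun n v v' =>
    O.polar_app _ _ _
  set S : V8 → V8 := fun v => v + a 1 v + a 2 v + a 3 v + a 4 v with hS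
  have hSfix : ∀ v, a 1 (S v) = S v := fun v => by
    simp only [hS, aadd, aa]
    rw [show (1 + 4 : ℕ) = 0 + 5 from rfl, a5, a0']
    abel
  have fixn : ∀ n v, a 1 v = v → a n v = v := by
    intro n v hv
    induction n with
    | zero => exact a0' v
    | succ n ih => rw [← aa, hv, ih]
  have hSperp : ∀ y, (∀ v, a 1 v = v → polar (⇑phi) y v = 0) → S y = 0 := by
    intro y hy
    refine phi_nondeg _ fun v => ?_
    have hn : ∀ n, n ≤ 4 → polar (⇑phi) (a n y) v = polar (⇑phi) y (a (5 - n) v) := fun n hn => by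
      rw [← apol (5 - n) (a n y) v, aa, show 5 - n + n = 0 + 5 by omega, a5, a0']
    calc polar (⇑phi) (S y) v = polar (⇑phi) y (a 5 v + a 4 v + a 3 v + a 2 v + a 1 v) := by
          simp only [hS, polar_add_left, polar_add_right]
          rw [hn 1 (by norm_num), hn 2 (by norm_num), hn 3 (by norm_num), hn 4 (by norm_num),
            show a 5 v = v from (a5 0 v).trans (a0' v)]
      _ = polar (⇑phi) y (S v) := by
          rw [show a 5 v = v from (a5 0 v).trans (a0' v)]
          congr 1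
          simp only [hS]; abel
      _ = 0 := hy _ (hSfix v)
  -- the perpendicular space of the fixed space
  set Pp : V8 → Prop := fun y => ∀ v, a 1 v = v → polar (⇑phi) y v = 0 with hPp
  have Padd : ∀ y y', Pp y → Pp y' → Pp (y + y') := fun y y' h h' v hv => by
    rw [polar_add_left, h v hv, h' v hv, add_zero]
  have Pa : ∀ n y, Pp y → Pp (a n y) := fun n y h v hv => by
    conv_lhs => rw [← fixn n v hv]
    rw [apol]; exact h v hv
  have hsum : ∀ y, Pp y → phi y + polar (⇑phi) y (a 1 y) + polar (⇑phi) y (a 2 y) = 0 := by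
    intro y hy
    have h4 : y + a 1 y + a 2 y + a 3 y = a 4 y := by
      have := hSperp y hy
      exact eq_of_add_eq_zero' this
    have e := congrArg phi h4
    simp only [map_add_polar, polar_add_left] at e
    rw [show phi (a 1 y) = phi y from O.map_app _ _, show phi (a 2 y) = phi y from O.map_app _ _,
      show phi (a 3 y) = phi y from O.map_app _ _, show phi (a 4 y) = phi y from O.map_app _ _] at e
    have e12 : polar (⇑phi) (a 1 y) (a 2 y) = polar (⇑phi) y (a 1 y) := by
      rw [show a 2 y = a 1 (a 1 y) by rw [aa], apol]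
    have e13 : polar (⇑phi) (a 1 y) (a 3 y) = polar (⇑phi) y (a 2 y) := by
      rw [show a 3 y = a 1 (a 2 y) by rw [aa], apol]
    have e23 : polar (⇑phi) (a 2 y) (a 3 y) = polar (⇑phi) y (a 1 y) := by
      rw [show a 3 y = a 2 (a 1 y) by rw [aa], apol]
    have e03 : polar (⇑phi) y (a 3 y) = polar (⇑phi) y (a 2 y) := by
      rw [← apol 2 y (a 3 y), aa, show (2 + 3 : ℕ) = 0 + 5 from rfl, a5, a0', polar_comm]
    rw [e12, e13, e23, e03] at e
    revert e
    generalize phi y = p, polar (⇑phi) y (a 1 y) = c, polar (⇑phi) y (a 2 y) = d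
    revert p c d; decide
  -- the two invariants of an orbit
  have hshift : ∀ y m n, m ≤ n → polar (⇑phi) (a m y) (a n y) = polar (⇑phi) y (a (n - m) y) :=
    fun y m n h => by
      rw [show a n y = a m (a (n - m) y) by rw [aa]; congr 1; omega, apol]
  have h43 : ∀ y, polar (⇑phi) y (a 4 y) = polar (⇑phi) y (a 1 y) ∧
      polar (⇑phi) y (a 3 y) = polar (⇑phi) y (a 2 y) := fun y => by
    constructor
    · rw [← apol 1 y (a 4 y), aa, show (1 + 4 : ℕ) = 0 + 5 from rfl, a5, a0', polar_comm]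
    · rw [← apol 2 y (a 3 y), aa, show (2 + 3 : ℕ) = 0 + 5 from rfl, a5, a0', polar_comm]
  suffices H : ∃ x, Pp x ∧ polar (⇑phi) x (a 1 x) = 1 ∧ polar (⇑phi) x (a 2 x) = 1 by
    obtain ⟨x, hx, h11, h12⟩ := H
    have hx0 := hsum x hx
    rw [h11, h12, add_assoc, show (1 + 1 : ZMod 2) = 0 from rfl, add_zero] at hx0
    have e1 : ∀ v, a 1 v = (β : V8 ≃ₗ[ZMod 2] V8) v := fun v => by simp only [ha, pow_one]
    refine ⟨x, fun v hv => hx v ((e1 v).trans hv), hx0, by rwa [← e1], h12, ?_⟩
    rw [← e1]; exact hSperp x hx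
  obtain ⟨y, hy, hne⟩ : ∃ y, Pp y ∧
      (polar (⇑phi) y (a 1 y) = 1 ∨ polar (⇑phi) y (a 2 y) = 1) := by
    by_contra hno
    push Not at hno
    have hq : ∀ y, Pp y → phi y = 0 := fun y hy => by
      have := hsum y hy
      obtain ⟨h11, h12⟩ := hno y hy
      rwa [(two_cases' _).resolve_right h11, (two_cases' _).resolve_right h12, add_zero,
        add_zero] at this
    refine h1 (O.ext_app fun v => ?_)
    -- `a 1 v + v` lies in the perpendicular space and is orthogonal to it
    have hP : ∀ u, Pp (a 1 u + u) := fun u w hw => by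
      have e := apol 1 u w
      rw [hw] at e
      rw [polar_add_left, e, CharTwo.add_self_eq_zero]
    have horth : ∀ y y', Pp y → Pp y' → polar (⇑phi) y y' = 0 := fun y y' h h' => by
      rw [polar, hq _ (Padd y y' h h'), hq y h, hq y' h', sub_zero, sub_zero]
    have hzero : a 1 v + v = 0 := by
      refine phi_nondeg _ fun u => ?_
      have hu : S u + ((a 2 u + a 1 u) + (a 4 u + a 3 u)) = u := by
        have e : ∀ w : V8, w + w = 0 := add_self'
        calc S u + ((a 2 u + a 1 u) + (a 4 u + a 3 u))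
            = u + (a 1 u + a 1 u) + (a 2 u + a 2 u) + (a 3 u + a 3 u) + (a 4 u + a 4 u) := by
              simp only [hS]; abel
          _ = u := by simp only [e, add_zero]
      rw [← hu, polar_add_right (Q := phi) (a 1 v + v) (S u), polar_add_right (Q := phi) (a 1 v + v) (a 2 u + a 1 u),
        hP v _ (hSfix u), zero_add,
        horth _ _ (hP v) (by rw [show a 2 u = a 1 (a 1 u) by rw [aa]]; exact hP _),
        horth _ _ (hP v) (by rw [show a 4 u = a 1 (a 3 u) by rw [aa]]; exact hP _), add_zero]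
    have := eq_of_add_eq_zero' hzero
    simpa [ha] using this
  rcases two_cases' (polar (⇑phi) y (a 1 y)) with hc | hc <;>
    rcases two_cases' (polar (⇑phi) y (a 2 y)) with hd | hd
  · rw [hc, hd] at hne; simp at hne
  · refine ⟨y + a 1 y, Padd _ _ hy (Pa 1 y hy), ?_, ?_⟩
    · simp only [aadd, aa, polar_add_left, polar_add_right, hshift y 1 (1 + 1) (by norm_num),
        hshift y 1 1 le_rfl]
      simp [a0', hc, hd, polar_self, show (1 + 1 : ℕ) = 2 from rfl, show (2 : ZMod 2) = 0 from rfl]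
    · simp only [aadd, aa, polar_add_left, polar_add_right, hshift y 1 (2 + 1) (by norm_num),
        hshift y 1 2 (by norm_num)]
      simp [hc, hd, (h43 y).2, show (2 + 1 : ℕ) = 3 from rfl, show (1 + 1 : ZMod 2) = 0 from rfl]
  · refine ⟨y + a 2 y, Padd _ _ hy (Pa 2 y hy), ?_, ?_⟩
    · simp only [aadd, aa, polar_add_left, polar_add_right]
      rw [polar_comm (⇑phi) (a 2 y) (a 1 y), hshift y 1 2 (by norm_num),
        hshift y 2 (1 + 2) (by norm_num), show (1 + 2 : ℕ) = 3 from rfl, (h43 y).2]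
      simp [hc, hd, show (1 + 1 : ZMod 2) = 0 from rfl]
    · simp only [aadd, aa, polar_add_left, polar_add_right]
      rw [hshift y 2 (2 + 2) (by norm_num), hshift y 2 2 le_rfl, show (2 + 2 : ℕ) = 4 from rfl,
        (h43 y).1]
      simp [a0', hc, hd, polar_self, show (2 : ZMod 2) = 0 from rfl]
  · exact ⟨y, hy, hc, hd⟩

theorem exists_normal (h : H73.Conway.Setup z Q) {b : G} (hbz : b * z = z * b) (h5 : b ^ 5 = 1)
    (hb1 : b ≠ 1) (hcard : Nat.card ↥(Q ⊓ centralizer ({b} : Set G)) = 32) :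
    ∃ h' : H73.Conway.Setup z Q, h'.ρ b = beta := by
  classical
  set β := h.ρ b with hβ
  have hβ5 : β ^ 5 = 1 := by rw [hβ, ← h.ρ_pow hbz, h5, h.ρ_one]
  have hβ1 : β ≠ 1 := fun e => hb1 (by
    have h4 := h.pow_four ((h.ρ_ker b hbz).mp e)
    rw [pow_succ, h4, one_mul] at h5
    exact h5)
  obtain ⟨x, hx, hx0, hx1, hx2, hxs⟩ := exists_orbit hβ5 hβ1
  set a : ℕ → V8 := fun n => ((β ^ n : O phi) : V8 ≃ₗ[ZMod 2] V8) x with ha
  set w : Fin 4 → V8 := fun i => a i with hw
  have hwq : ∀ i, phi (w i) = 0 := fun i => by rw [hw]; exact (O.map_app _ _).trans hx0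
  have hsh : ∀ m n, polar (⇑phi) (a m) (a (m + n)) = polar (⇑phi) x (a n) := fun m n => by
    simp only [ha, pow_add, mul_app']
    exact O.polar_app _ _ _
  have h3 : polar (⇑phi) x (a 3) = 1 := by
    have := hsh 2 3
    rw [show a (2 + 3) = x by simp only [ha, show 2 + 3 = 5 from rfl, hβ5]; rfl, polar_comm] at this
    rw [← this]; exact hx2
  have hw1 : polar (⇑phi) x (a 1) = 1 := by simp only [ha, pow_one]; exact hx1
  have hw0 : ∀ n, polar (⇑phi) (a 0) (a n) = polar (⇑phi) x (a n) := fun n => by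
    simp only [ha, pow_zero]; rfl
  have hwp : ∀ i j, i ≠ j → polar (⇑phi) (w i) (w j) = 1 := by
    suffices H : ∀ i j : Fin 4, i < j → polar (⇑phi) (w i) (w j) = 1 by
      intro i j hij
      rcases lt_or_gt_of_ne hij with l | l
      · exact H i j l
      · rw [polar_comm]; exact H j i l
    intro i j hij
    have e := hsh i.val (j.val - i.val)
    rw [Nat.add_sub_cancel' hij.le] at e
    show polar (⇑phi) (a i.val) (a j.val) = 1
    rw [e]
    have hd : j.val - i.val = 1 ∨ j.val - i.val = 2 ∨ j.val - i.val = 3 := by omega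
    rcases hd with d | d | d <;> rw [d]
    exacts [hw1, hx2, h3]
  have hmq : ∀ i : Fin 4, phi (xM i.castSucc) = 0 := fun i => by rw [phi_eq, penta_M.sing]
  have hmp : ∀ i j : Fin 4, i ≠ j → polar (⇑phi) (xM i.castSucc) (xM j.castSucc) = 1 :=
    fun i j hij => by
      rw [polar_eq, penta_M.pol _ _ (fun e => hij (Fin.castSucc_injective 4 e))]
  obtain ⟨g, hg⟩ := exists_map_family phi_nondeg (v := w) (w := fun i : Fin 4 => xM i.castSucc)
    (indep_four hwq hwp) (indep_four hmq hmp) (fun i => by rw [hwq, hmq])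
    (fun i j hij => by rw [hwp i j hij, hmp i j hij])
  have hg4 : (g : V8 ≃ₗ[ZMod 2] V8) (a 4) = xM 4 := by
    have e4 : a 4 = a 0 + a 1 + a 2 + a 3 := by
      simp only [ha, pow_zero, pow_one]
      exact (eq_of_add_eq_zero' hxs).symm
    rw [e4, map_add, map_add, map_add]
    have g0 := hg 0; have g1 := hg 1; have g2 := hg 2; have g3 := hg 3
    simp only [hw] at g0 g1 g2 g3
    simp only [Fin.val_zero, Fin.val_one, Fin.val_two, show ((3 : Fin 4) : ℕ) = 3 from rfl] at g0 g1 g2 g3
    rw [g0, g1, g2, g3, xM_sum]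
    rfl
  have hga : ∀ i : Fin 5, (g : V8 ≃ₗ[ZMod 2] V8) (a i) = xM i := by
    intro i
    induction i using Fin.lastCases with
    | last => exact hg4
    | cast i => exact hg i
  refine ⟨twist h g, ?_⟩
  show g * β * g⁻¹ = beta
  -- the fixed space
  set Fx : Finset V8 := Finset.univ.filter fun v => (β : V8 ≃ₗ[ZMod 2] V8) v = v with hFx
  have hFx16 : 16 ≤ Fx.card := by
    choose sec hsecQ hsec using h.π_surj
    let f : ↥(Q ⊓ centralizer ({b} : Set G)) → ↥Fx × Fin 2 := fun q =>
      (⟨h.π q, by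
        simp only [hFx, Finset.mem_filter, Finset.mem_univ, true_and]
        rw [hβ, ← h.ρ_π b hbz q (Subgroup.mem_inf.mp q.2).1]
        congr 1
        rw [mul_inv_eq_iff_eq_mul]
        exact (mem_centralizer_singleton_iff.mp (Subgroup.mem_inf.mp q.2).2).symm⟩,
        if (q : G) = sec (h.π q) then 0 else 1)
    have hinj : Function.Injective f := by
      intro q q' e
      simp only [f, Prod.mk.injEq, Subtype.mk.injEq] at e
      obtain ⟨e1, e2⟩ := e
      apply Subtype.ext
      rw [← e1] at e2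
      have hz' : ∀ v, h.π (sec v * z) = v := fun v => by
        rw [h.π_mul _ (hsecQ v) _ h.hzQ, hsec, h.π_z, add_zero]
      rcases h.π_eq (hsecQ (h.π q)) (Subgroup.mem_inf.mp q.2).1 (hsec _) with r | r <;>
        rcases h.π_eq (hsecQ (h.π q)) (Subgroup.mem_inf.mp q'.2).1 ((hsec _).trans e1) with r' | r' <;>
        rw [r, r'] at e2 <;> rw [r, r']
      all_goals simp [hsec, hz', h.z_ne] at e2
    have := Nat.card_le_card_of_injective f hinj
    rw [hcard, Nat.card_prod, Nat.card_eq_fintype_card, Fintype.card_coe, Nat.card_fin] at this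
    omega
  have himg : Fx.image (g : V8 ≃ₗ[ZMod 2] V8) =
      Finset.univ.filter fun v : V8 => ∀ i, pV v (xM i) = 0 := by
    refine Finset.eq_of_subset_of_card_le ?_ ?_
    · intro v hv
      obtain ⟨u, hu, rfl⟩ := Finset.mem_image.mp hv
      simp only [hFx, Finset.mem_filter, Finset.mem_univ, true_and] at hu ⊢
      intro i
      rw [← hga i, pV_app, pV_comm, ← polar_eq]
      have hfix : ((β ^ i.val : O phi) : V8 ≃ₗ[ZMod 2] V8) u = u := by
        induction i.val with
        | zero => rfl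
        | succ n ih => rw [pow_succ, mul_app', hu, ih]
      show polar (⇑phi) (((β ^ i.val : O phi) : V8 ≃ₗ[ZMod 2] V8) x) u = 0
      conv_lhs => rw [← hfix]
      rw [O.polar_app]
      exact hx u hu
    · rw [card_perp_M, Finset.card_image_of_injective _ (g : V8 ≃ₗ[ZMod 2] V8).injective]
      exact hFx16
  refine penta_M.ext (fun i => ?_) (fun i => ?_)
  · rw [beta_xM, mul_app', mul_app', ← hga i, inv_app, ← hga (i + 1)]
    congr 1
    show (β : V8 ≃ₗ[ZMod 2] V8) (((β ^ i.val : O phi) : V8 ≃ₗ[ZMod 2] V8) x) = _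
    rw [← mul_app', ← pow_succ']
    show ((β ^ (i.val + 1) : O phi) : V8 ≃ₗ[ZMod 2] V8) x =
      ((β ^ (i + 1).val : O phi) : V8 ≃ₗ[ZMod 2] V8) x
    congr 2
    rw [Fin.val_add_one]
    split_ifs with hi
    · subst hi; exact (show β ^ 5 = β ^ 0 from hβ5.trans (pow_zero β).symm)
    · rfl
  · have : xF i ∈ Fx.image (g : V8 ≃ₗ[ZMod 2] V8) := by
      rw [himg]
      simp only [Finset.mem_filter, Finset.mem_univ, true_and]
      exact fun j => penta_F.cross i j
    obtain ⟨u, hu, hue⟩ := Finset.mem_image.mp this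
    simp only [hFx, Finset.mem_filter, Finset.mem_univ, true_and] at hu
    rw [beta_xF, ← hue, mul_app', mul_app', inv_app, hu]

end Cfsg.Agent.H13.ConwayFive
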