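import Cfsg.Agent.H73.Conway.Invol
import Mathlib.GroupTheory.SpecificGroups.Alternating

/-!
The hyperbolic space of dimension eight over two elements as the sum of two elliptic spaces of
dimension four, each given by its five singular points.
-/

set_option autoImplicit false
set_option linter.style.haveILetI false
set_option linter.unusedSectionVars false
set_option maxRecDepth 100000
set_option synthInstance.maxSize 4000
set_option synthInstance.maxHeartbeats 400000

namespace Cfsg.Agent.H13.ConwayFive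

open QuadraticMap Cfsg.Agent.Orthogonal Cfsg.Agent.H73.Conway

/-- The form, computably. -/
def qV (v : V8) : ZMod 2 := v.1.1 * v.1.2 + qU v.2

/-- The polar form, computably. -/
def pV (v w : V8) : ZMod 2 := v.1.1 * w.1.2 + w.1.1 * v.1.2 + fU v.2 w.2

/-- The five singular points of the first space. -/
def xF : Fin 5 → V8 :=
  ![((1, 0), 0), ((0, 1), 0), ((1, 1), a0), ((1, 1), u0), ((1, 1), a0 + u0)]

/-- The five singular points of the second space. -/
def xM : Fin 5 → V8 :=
  ![((0, 0), (0, 1), (0, 0), 0, 0), ((0, 0), (1, 0), (0, 0), 0, 0),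
    ((0, 0), (1, 1), (0, 1), 1, 1), ((0, 0), (1, 1), (1, 0), 1, 1),
    ((0, 0), (1, 1), (1, 1), 0, 0)]

/-- Coefficients with respect to five singular points. -/
def cf (x : Fin 5 → V8) (v : V8) (i : Fin 5) : ZMod 2 := pV v (x 4) + pV v (x i)

/-- The component along four of the five points. -/
def comp4 (x : Fin 5 → V8) (v : V8) : V8 :=
  cf x v 0 • x 0 + (cf x v 1 • x 1 + (cf x v 2 • x 2 + cf x v 3 • x 3))

/-- Five singular points in each of two orthogonal subspaces. -/
structure Penta (x y : Fin 5 → V8) : Prop where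
  sing : ∀ i, qV (x i) = 0
  pol : ∀ i j, i ≠ j → pV (x i) (x j) = 1
  cross : ∀ i j, pV (x i) (y j) = 0
  inj : ∀ i j, x i = x j → i = j
  ne : ∀ i, x i ≠ 0
  expand : ∀ v, v = comp4 x v + comp4 y v
  perp_eq : ∀ v, (∀ i, pV v (y i) = 0) → comp4 y v = 0
  pts : ∀ v, qV v = 0 → v ≠ 0 → (∀ i, pV v (y i) = 0) → ∃ j, v = x j

theorem penta_F : Penta xF xM :=
  ⟨by decide +kernel, by decide +kernel, by decide +kernel, by decide +kernel, by decide +kernel,
    by decide +kernel, by decide +kernel, by decide +kernel⟩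

theorem penta_M : Penta xM xF :=
  ⟨by decide +kernel, by decide +kernel, by decide +kernel, by decide +kernel, by decide +kernel,
    by decide +kernel, by decide +kernel, by decide +kernel⟩

theorem phi_eq (v : V8) : phi v = qV v := phi_apply v

theorem polar_eq (v w : V8) : polar (⇑phi) v w = pV v w := polar_phi v w

theorem pV_app (g : O phi) (v w : V8) :
    pV ((g : V8 ≃ₗ[ZMod 2] V8) v) ((g : V8 ≃ₗ[ZMod 2] V8) w) = pV v w := by
  rw [← polar_eq, ← polar_eq, O.polar_app]

theorem pV_comm (v w : V8) : pV v w = pV w v := by rw [← polar_eq, ← polar_eq, polar_comm]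

theorem pV_add (v v' w : V8) : pV (v + v') w = pV v w + pV v' w := by
  simp only [← polar_eq, polar_add_left]

theorem mul_app' (g k : O phi) (v : V8) : ((g * k : O phi) : V8 ≃ₗ[ZMod 2] V8) v =
    (g : V8 ≃ₗ[ZMod 2] V8) ((k : V8 ≃ₗ[ZMod 2] V8) v) := rfl

theorem inv_app (g : O phi) (v : V8) :
    ((g⁻¹ : O phi) : V8 ≃ₗ[ZMod 2] V8) ((g : V8 ≃ₗ[ZMod 2] V8) v) = v := by
  rw [← mul_app', inv_mul_cancel]; rfl

namespace Penta

variable {x y : Fin 5 → V8} (P : Penta x y) (Q : Penta y x)
include P

/-- An isometry is determined by the two pentads. -/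
theorem ext {g k : O phi}
    (hx : ∀ i, (g : V8 ≃ₗ[ZMod 2] V8) (x i) = (k : V8 ≃ₗ[ZMod 2] V8) (x i))
    (hy : ∀ i, (g : V8 ≃ₗ[ZMod 2] V8) (y i) = (k : V8 ≃ₗ[ZMod 2] V8) (y i)) : g = k := by
  refine O.ext_app fun v => ?_
  rw [P.expand v]
  simp only [comp4, map_add, map_smul, hx, hy]

omit P in
theorem app_comp4 {z : Fin 5 → V8} {g : O phi}
    (hz : ∀ i, (g : V8 ≃ₗ[ZMod 2] V8) (z i) = z i) (v : V8) :
    (g : V8 ≃ₗ[ZMod 2] V8) (comp4 z v) = comp4 z v := by
  simp only [comp4, map_add, map_smul, hz]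

/-- The isometries fixing the second pentad. -/
def stab (y : Fin 5 → V8) : Subgroup (O phi) where
  carrier := {g | ∀ i, (g : V8 ≃ₗ[ZMod 2] V8) (y i) = y i}
  mul_mem' {a b} ha hb i := by rw [mul_app', hb i, ha i]
  one_mem' i := rfl
  inv_mem' {a} ha i := by
    conv_lhs => rw [← ha i]
    exact inv_app a (y i)

theorem perm_pts {g : O phi} (hg : g ∈ stab y) (i : Fin 5) :
    ∃ j, (g : V8 ≃ₗ[ZMod 2] V8) (x i) = x j := by
  refine P.pts _ ?_ (fun e => P.ne i ((LinearEquiv.map_eq_zero_iff _).mp e)) fun j => ?_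
  · rw [← phi_eq, O.map_app, phi_eq, P.sing]
  · rw [← hg j, pV_app, P.cross]

/-- The permutation of the points. -/
noncomputable def pf (g : stab y) (i : Fin 5) : Fin 5 := (P.perm_pts g.2 i).choose

theorem pf_spec (g : stab y) (i : Fin 5) :
    ((g : O phi) : V8 ≃ₗ[ZMod 2] V8) (x i) = x (P.pf g i) := (P.perm_pts g.2 i).choose_spec

theorem pf_mul (g k : stab y) (i : Fin 5) : P.pf (g * k) i = P.pf g (P.pf k i) := by
  apply P.inj
  rw [← P.pf_spec, ← P.pf_spec, Subgroup.coe_mul, mul_app', P.pf_spec]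

theorem pf_one (i : Fin 5) : P.pf 1 i = i := by
  apply P.inj
  rw [← P.pf_spec]; rfl

/-- The action on the points. -/
noncomputable def perm : stab y →* Equiv.Perm (Fin 5) where
  toFun g := ⟨P.pf g, P.pf g⁻¹, fun i => by rw [← P.pf_mul, inv_mul_cancel, P.pf_one],
    fun i => by rw [← P.pf_mul, mul_inv_cancel, P.pf_one]⟩
  map_one' := Equiv.ext P.pf_one
  map_mul' g k := Equiv.ext (P.pf_mul g k)

theorem perm_spec (g : stab y) (i : Fin 5) :
    ((g : O phi) : V8 ≃ₗ[ZMod 2] V8) (x i) = x (P.perm g i) := P.pf_spec g i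

theorem perm_injective : Function.Injective P.perm := fun g k e =>
  Subtype.ext (P.ext (fun i => by rw [P.perm_spec, P.perm_spec, e])
    fun i => (g.2 i).trans (k.2 i).symm)

omit P in
/-- The reflection exchanging two points. -/
noncomputable def refl (x : Fin 5 → V8) (i j : Fin 5) : O phi := rO phi (x i + x j)

theorem refl_q {i j : Fin 5} (h : i ≠ j) : phi (x i + x j) = 1 := by
  rw [map_add_polar, phi_eq, phi_eq, P.sing, P.sing, polar_eq, P.pol i j h, zero_add, zero_add]

theorem refl_app {i j : Fin 5} (h : i ≠ j) (v : V8) :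
    (refl x i j : V8 ≃ₗ[ZMod 2] V8) v = v + (pV (x i) v + pV (x j) v) • (x i + x j) := by
  rw [refl, rO_app, P.refl_q h, inv_one, one_mul, polar_eq, pV_add, sub_eq_add']

theorem refl_mem {i j : Fin 5} (h : i ≠ j) : refl x i j ∈ stab y := fun k => by
  rw [P.refl_app h, P.cross, P.cross, add_zero, zero_smul, add_zero]

theorem pV_self (i : Fin 5) : pV (x i) (x i) = 0 := by
  rw [← polar_eq, polar_self, phi_eq, P.sing, smul_zero]

theorem refl_perm {i j : Fin 5} (h : i ≠ j) :
    P.perm ⟨refl x i j, P.refl_mem h⟩ = Equiv.swap i j := by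
  refine Equiv.ext fun k => P.inj _ _ ?_
  rw [← P.perm_spec]
  show (refl x i j : V8 ≃ₗ[ZMod 2] V8) (x k) = _
  rw [P.refl_app h]
  rcases eq_or_ne k i with rfl | hki
  · rw [P.pV_self, P.pol j k h.symm, zero_add, one_smul, Equiv.swap_apply_left, ← add_assoc,
      add_self', zero_add]
  rcases eq_or_ne k j with rfl | hkj
  · rw [P.pV_self, P.pol i k h, add_zero, one_smul, Equiv.swap_apply_right, add_comm (x i),
      ← add_assoc, add_self', zero_add]
  rw [P.pol i k hki.symm, P.pol j k hkj.symm, Equiv.swap_apply_of_ne_of_ne hki hkj,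
    CharTwo.add_self_eq_zero, zero_smul, add_zero]

theorem perm_surjective : Function.Surjective P.perm := by
  rw [← MonoidHom.range_eq_top, eq_top_iff, ← Equiv.Perm.closure_isSwap, Subgroup.closure_le]
  rintro σ ⟨i, j, h, rfl⟩
  exact ⟨_, P.refl_perm h⟩

/-- The full stabiliser is the symmetric group. -/
noncomputable def permEquiv : stab y ≃* Equiv.Perm (Fin 5) :=
  MulEquiv.ofBijective P.perm ⟨P.perm_injective, P.perm_surjective⟩

theorem refl_not_K {i j : Fin 5} (h : i ≠ j) : refl x i j ∉ commutator (O phi) :=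
  rO_not_mem_K (by rw [P.refl_q h]; exact one_ne_zero)

theorem refl_mul_K {i j k l : Fin 5} (h : i ≠ j) (h' : k ≠ l) :
    refl x i j * refl x k l ∈ commutator (O phi) :=
  rO_mul_mem_K (by rw [P.refl_q h]; exact one_ne_zero) (by rw [P.refl_q h']; exact one_ne_zero)

/-- The part in the commutator subgroup. -/
def evenPart (y : Fin 5 → V8) : Subgroup (O phi) := stab y ⊓ commutator (O phi)

theorem image_even : ((evenPart y).subgroupOf (stab y)).map P.perm = alternatingGroup (Fin 5) := by
  set A := ((evenPart y).subgroupOf (stab y)).map P.perm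
  have hswap : ∀ {i j : Fin 5}, i ≠ j → Equiv.swap i j ∉ A := by
    rintro i j h ⟨g, hg, hge⟩
    rw [← P.refl_perm h] at hge
    obtain rfl := P.perm_injective hge
    exact P.refl_not_K h hg.2
  have hle : alternatingGroup (Fin 5) ≤ A := by
    rw [← Equiv.Perm.closure_three_cycles_eq_alternating, Subgroup.closure_le]
    intro σ hσ
    obtain ⟨a, b, c, hab, hac, hbc, rfl⟩ : ∃ a b c : Fin 5, a ≠ b ∧ a ≠ c ∧ b ≠ c ∧
        σ = Equiv.swap a b * Equiv.swap a c := by
      have hh : σ.support.card = 3 := Equiv.Perm.IsThreeCycle.card_support hσ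
      clear hσ
      revert σ
      decide +kernel
    exact ⟨⟨refl x a b, P.refl_mem hab⟩ * ⟨refl x a c, P.refl_mem hac⟩,
      ⟨mul_mem (P.refl_mem hab) (P.refl_mem hac), P.refl_mul_K hab hac⟩,
      by rw [map_mul, P.refl_perm hab, P.refl_perm hac]⟩
  refine le_antisymm (fun σ hσ => ?_) hle
  rw [Equiv.Perm.mem_alternatingGroup]
  rcases Int.units_eq_one_or (Equiv.Perm.sign σ) with e | e
  · exact e
  · exfalso
    have h01 : (0 : Fin 5) ≠ 1 := by decide
    refine hswap h01 ?_
    have hev : Equiv.swap (0 : Fin 5) 1 * σ⁻¹ ∈ A := hle (by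
      rw [Equiv.Perm.mem_alternatingGroup, map_mul, map_inv, e, Equiv.Perm.sign_swap h01]; rfl)
    simpa using mul_mem hev hσ

/-- The even part is the alternating group. -/
noncomputable def altEquiv : evenPart y ≃* alternatingGroup (Fin 5) :=
  (Subgroup.subgroupOfEquivOfLe (inf_le_left : evenPart y ≤ stab y)).symm.trans
    ((((evenPart y).subgroupOf (stab y)).equivMapOfInjective P.perm P.perm_injective).trans
      (MulEquiv.subgroupCongr P.image_even))

theorem card_even : Nat.card (evenPart y) = 60 := by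
  rw [Nat.card_congr P.altEquiv.toEquiv]
  have h := Subgroup.card_mul_index (alternatingGroup (Fin 5))
  rw [alternatingGroup.index_eq_two, Nat.card_eq_fintype_card (α := Equiv.Perm (Fin 5)),
    Fintype.card_perm, Fintype.card_fin] at h
  norm_num [Nat.factorial] at h ⊢
  omega

/-- The even parts of the two pentads commute. -/
theorem commute_parts {g k : O phi} (hg : g ∈ stab y) (hk : k ∈ stab x) : g * k = k * g := by
  refine P.ext (fun i => ?_) (fun i => ?_)
  · rw [mul_app', mul_app', hk i]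
    obtain ⟨j, hj⟩ := P.perm_pts hg i
    rw [hj, hk j]
  · rw [mul_app', mul_app', hg i]
    have hperp : ∀ j, pV ((k : V8 ≃ₗ[ZMod 2] V8) (y i)) (x j) = 0 := fun j => by
      rw [← hk j, pV_app, pV_comm, P.cross]
    have h0 : comp4 x ((k : V8 ≃ₗ[ZMod 2] V8) (y i)) = 0 := by
      simp [comp4, cf, hperp]
    conv_lhs => rw [P.expand ((k : V8 ≃ₗ[ZMod 2] V8) (y i)), h0, zero_add, app_comp4 hg]
    conv_rhs => rw [P.expand ((k : V8 ≃ₗ[ZMod 2] V8) (y i)), h0, zero_add]

end Penta

/-- The standard element of order five. -/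
noncomputable def beta : O phi :=
  (Penta.refl xM 0 1 * Penta.refl xM 1 2) * (Penta.refl xM 2 3 * Penta.refl xM 3 4)

theorem beta_stab : beta ∈ Penta.stab xF :=
  mul_mem (mul_mem (penta_M.refl_mem (by decide)) (penta_M.refl_mem (by decide)))
    (mul_mem (penta_M.refl_mem (by decide)) (penta_M.refl_mem (by decide)))

theorem beta_K : beta ∈ commutator (O phi) :=
  mul_mem (penta_M.refl_mul_K (by decide) (by decide)) (penta_M.refl_mul_K (by decide) (by decide))

theorem beta_even : beta ∈ Penta.evenPart xF := ⟨beta_stab, beta_K⟩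

theorem beta_xF (i : Fin 5) : (beta : V8 ≃ₗ[ZMod 2] V8) (xF i) = xF i := beta_stab i

theorem beta_xM (i : Fin 5) : (beta : V8 ≃ₗ[ZMod 2] V8) (xM i) = xM (i + 1) := by
  rw [beta, mul_app', mul_app', mul_app', penta_M.refl_app (by decide),
    penta_M.refl_app (by decide), penta_M.refl_app (by decide), penta_M.refl_app (by decide)]
  revert i; decide +kernel

theorem beta_app (v : V8) : (beta : V8 ≃ₗ[ZMod 2] V8) v = comp4 xF v +
    (cf xM v 0 • xM 1 + (cf xM v 1 • xM 2 + (cf xM v 2 • xM 3 + cf xM v 3 • xM 4))) := by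
  conv_lhs => rw [penta_F.expand v]
  rw [map_add, Penta.app_comp4 beta_xF]
  simp only [comp4, map_add, map_smul, beta_xM]
  rfl

/-- The fixed vectors are those orthogonal to the second pentad. -/
theorem beta_fix_iff (v : V8) : (beta : V8 ≃ₗ[ZMod 2] V8) v = v ↔ ∀ i, pV v (xM i) = 0 := by
  rw [beta_app]
  revert v; decide +kernel

theorem beta_v0 : (beta : V8 ≃ₗ[ZMod 2] V8) v0 = v0 := beta_xF 0

theorem beta_pow_five : beta ^ 5 = 1 := by
  have h : ∀ (n : ℕ) (i : Fin 5), ((beta ^ n : O phi) : V8 ≃ₗ[ZMod 2] V8) (xM i) = xM (i + Fin.ofNat 5 n) := by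
    intro n
    induction n with
    | zero =>
      intro i
      rw [show i + Fin.ofNat 5 0 = i by revert i; decide]
      rfl
    | succ n ih =>
      intro i
      rw [pow_succ, mul_app', beta_xM, ih]
      congr 1
      ext
      simp [Fin.val_add, Fin.ofNat]
      omega
  refine penta_M.ext (fun i => ?_) (fun i => ?_)
  · rw [h, show i + Fin.ofNat 5 5 = i by revert i; decide]
    rfl
  · exact (Penta.stab xF).pow_mem beta_stab 5 i

theorem beta_ne : beta ≠ 1 := fun e => by
  have := beta_xM 0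
  rw [e] at this
  exact absurd this (by decide)

end Cfsg.Agent.H13.ConwayFive
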